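import Mathlib
import Cfsg.Agent.Solvable.FixedPointFree
import Cfsg.Agent.Solvable.FpfPGroup
import Cfsg.Agent.S0016
import Cfsg.Agent.Solvable.UniqueOrderP
import Cfsg.Agent.Lib.NormalAbelian
set_option linter.all false

-- part: H351/HalfTransBasic
section
set_option autoImplicit false
set_option linter.style.haveILetI false
set_option linter.deprecated false

/-!
# Half-transitive linear `p`-groups: basic facts
-/

namespace Cfsg.Agent.H351.HT

variable {q : ℕ} {V : Type*} [AddCommGroup V] [Module (ZMod q) V]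
  {G : Type*} [Group G] (ρ : G →* (V ≃ₗ[ZMod q] V))

/-- the stabiliser of a vector -/
def stab (v : V) : Subgroup G where
  carrier := {g | ρ g v = v}
  one_mem' := by simp
  mul_mem' := by
    intro a b ha hb
    simp only [Set.mem_ofPred_eq] at *
    rw [map_mul, LinearEquiv.mul_apply, hb, ha]
  inv_mem' := by
    intro a ha
    simp only [Set.mem_ofPred_eq] at *
    have h : ρ a⁻¹ (ρ a v) = v := by rw [← LinearEquiv.mul_apply, ← map_mul]; simp
    rwa [ha] at h

theorem mem_stab {v : V} {g : G} : g ∈ stab ρ v ↔ ρ g v = v := Iff.rfl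

theorem inv_apply_self (g : G) (v : V) : ρ g⁻¹ (ρ g v) = v := by
  rw [← LinearEquiv.mul_apply, ← map_mul]; simp

theorem self_apply_inv (g : G) (v : V) : ρ g (ρ g⁻¹ v) = v := by
  rw [← LinearEquiv.mul_apply, ← map_mul]; simp

theorem card_orb_mul [Finite G] (v : V) :
    Nat.card {u : V | ∃ g : G, ρ g v = u} * Nat.card (stab ρ v) = Nat.card G := by
  letI : MulAction G V := MulAction.compHom V ρ
  have h1 := MulAction.index_stabilizer G v
  have h2 : MulAction.stabilizer G v = stab ρ v := by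
    ext g; rfl
  have h3 : (MulAction.orbit G v) = {u : V | ∃ g : G, ρ g v = u} := by
    ext u; rfl
  rw [h2, h3] at h1
  have h4 := Subgroup.card_mul_index (stab ρ v)
  rw [h1, mul_comm] at h4
  exact h4

theorem stab_card_eq [Finite G] [Finite V]
    (hhalf : ∀ v w : V, v ≠ 0 → w ≠ 0 →
      Nat.card {u : V | ∃ g : G, ρ g v = u} = Nat.card {u : V | ∃ g : G, ρ g w = u})
    (v w : V) (hv : v ≠ 0) (hw : w ≠ 0) : Nat.card (stab ρ v) = Nat.card (stab ρ w) := by
  have h1 := card_orb_mul ρ v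
  have h2 := card_orb_mul ρ w
  rw [hhalf v w hv hw, ← h2] at h1
  have h3 : 0 < Nat.card {u : V | ∃ g : G, ρ g w = u} := by
    haveI : Nonempty {u : V | ∃ g : G, ρ g w = u} := ⟨⟨w, 1, by simp⟩⟩
    exact Nat.card_pos
  exact Nat.eq_of_mul_eq_mul_left h3 h1

/-- stabilisers of half-transitive groups that are comparable are equal -/
theorem stab_eq_of_le [Finite G]
    (hc : ∀ v w : V, v ≠ 0 → w ≠ 0 → Nat.card (stab ρ v) = Nat.card (stab ρ w))
    {v w : V} (hv : v ≠ 0) (hw : w ≠ 0) (hle : stab ρ v ≤ stab ρ w) : stab ρ v = stab ρ w :=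
  Subgroup.eq_of_le_of_card_ge hle (hc v w hv hw).ge

theorem semireg_of_one [Finite G]
    (hc : ∀ v w : V, v ≠ 0 → w ≠ 0 → Nat.card (stab ρ v) = Nat.card (stab ρ w))
    {v : V} (hv : v ≠ 0) (h : stab ρ v = ⊥) : ∀ w : V, w ≠ 0 → ∀ g : G, ρ g w = w → g = 1 := by
  intro w hw g hg
  have h1 := hc w v hw hv
  rw [h, Subgroup.card_bot] at h1
  have h2 := Subgroup.eq_bot_of_card_eq _ h1
  have h3 : g ∈ stab ρ w := hg
  rw [h2] at h3
  exact h3

/-- in a finite cyclic group, an element whose order divides that of `z` is a power of `z` -/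
theorem mem_zpowers_of_dvd {A : Type*} [Group A] [Finite A] [IsCyclic A] {x z : A}
    (h : orderOf x ∣ orderOf z) : x ∈ Subgroup.zpowers z := by
  classical
  have := Fintype.ofFinite A
  have h1 := IsCyclic.card_pow_eq_one_le (α := A) (n := orderOf z) (orderOf_pos z)
  have h2 : (Finset.univ.filter fun a : A => a ∈ Subgroup.zpowers z) ⊆
      (Finset.univ.filter fun a : A => a ^ orderOf z = 1) := by
    intro a ha
    simp only [Finset.mem_filter, Finset.mem_univ, true_and] at ha ⊢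
    obtain ⟨k, rfl⟩ := Subgroup.mem_zpowers_iff.1 ha
    rw [← zpow_natCast, ← zpow_mul, mul_comm, zpow_mul, zpow_natCast, pow_orderOf_eq_one, one_zpow]
  have h3 : (Finset.univ.filter fun a : A => a ∈ Subgroup.zpowers z).card = orderOf z := by
    rw [← Nat.card_zpowers, Nat.card_eq_fintype_card, Fintype.card_subtype]
  have h4 := Finset.eq_of_subset_of_card_le h2 (by rw [h3]; exact h1)
  have h5 : x ∈ (Finset.univ.filter fun a : A => a ^ orderOf z = 1) := by
    simp only [Finset.mem_filter, Finset.mem_univ, true_and]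
    exact orderOf_dvd_iff_pow_eq_one.1 h
  rw [← h4] at h5
  simpa using h5

/-- A semiregular linear `p`-group is cyclic or generalised quaternion. -/
theorem cyclic_or_quat_of_semireg [Finite G] [Nontrivial V] (p : ℕ) [Fact p.Prime] (hG : IsPGroup p G)
    (h : ∀ v : V, v ≠ 0 → ∀ g : G, ρ g v = v → g = 1) :
    IsCyclic G ∨ ∃ n : ℕ, Nonempty (G ≃* QuaternionGroup n) := by
  have hp : p.Prime := Fact.out
  have key : ∀ x z : G, x * z = z * x → orderOf x = p → orderOf z = p →
      Subgroup.zpowers x = Subgroup.zpowers z := by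
    intro x z hxz hx hz
    let A := Subgroup.closure {x, z}
    have hcomm : ∀ a ∈ ({x, z} : Set G), ∀ b ∈ ({x, z} : Set G), a * b = b * a := by
      rintro a (rfl | rfl) b (rfl | rfl)
      · rfl
      · exact hxz
      · exact hxz.symm
      · rfl
    letI : CommGroup A := Subgroup.closureCommGroupOfComm hcomm
    have hcyc : IsCyclic A := by
      refine Cfsg.Agent.Solvable.FixedPointFree.isCyclic_of_comm (A := A) (M := V)
        { toFun := fun a => ((ρ (a : G)).toLinearMap.toAddMonoidHom : AddMonoid.End V)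
          map_one' := by ext v; simp; rfl
          map_mul' := by
            intro a b; ext v
            simp only [Subgroup.coe_mul, map_mul]
            rfl } ?_
      intro a ha v hv
      by_contra hv0
      exact ha (Subtype.ext (h v hv0 a hv))
    have hxA : x ∈ A := Subgroup.subset_closure (by simp)
    have hzA : z ∈ A := Subgroup.subset_closure (by simp)
    have h1 : Subgroup.zpowers (⟨x, hxA⟩ : A) = Subgroup.zpowers (⟨z, hzA⟩ : A) := by
      apply le_antisymm <;> rw [Subgroup.zpowers_le] <;> apply mem_zpowers_of_dvd <;>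
        rw [Subgroup.orderOf_mk, Subgroup.orderOf_mk, hx, hz]
    have h2 := congrArg (Subgroup.map A.subtype) h1
    rw [MonoidHom.map_zpowers, MonoidHom.map_zpowers] at h2
    exact h2
  have huniq := Cfsg.Agent.Solvable.FpfPGroup.eq_of_card_eq hp hG key
  rcases Cfsg.Agent.S0016.result p hG huniq with h | ⟨-, n, h⟩
  · exact Or.inl h
  · exact Or.inr ⟨_, h⟩

end Cfsg.Agent.H351.HT
end

-- part: H351/HalfTransRed
section
set_option autoImplicit false
set_option linter.style.haveILetI false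

/-!
# Half-transitive linear `p`-groups: the characteristic and the reducible case
-/

namespace Cfsg.Agent.H351.HT

variable {q : ℕ} {V : Type*} [AddCommGroup V] [Module (ZMod q) V]
  {G : Type*} [Group G] (ρ : G →* (V ≃ₗ[ZMod q] V))

/-- no invariant subspaces -/
def Irred : Prop := ∀ U : Submodule (ZMod q) V, (∀ g : G, ∀ u ∈ U, ρ g u ∈ U) → U = ⊥ ∨ U = ⊤

/-- In characteristic `p` a half-transitive `p`-group is trivial, so semiregular. -/
theorem semireg_of_char [hq : Fact q.Prime] [Finite V] [Nontrivial V] [Finite G] (hG : IsPGroup q G)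
    (hρ : Function.Injective ρ)
    (hc : ∀ v w : V, v ≠ 0 → w ≠ 0 → Nat.card (stab ρ v) = Nat.card (stab ρ w)) :
    ∀ w : V, w ≠ 0 → ∀ g : G, ρ g w = w → g = 1 := by
  letI : MulAction G V := MulAction.compHom V ρ
  have hsmul : ∀ (g : G) (v : V), g • v = ρ g v := fun g v => rfl
  have hdvd : q ∣ Nat.card V := by
    obtain ⟨v, hv⟩ := exists_ne (0 : V)
    have h1 : addOrderOf v = q := by
      apply addOrderOf_eq_prime _ hv
      have : (q : ZMod q) • v = 0 := by rw [ZMod.natCast_self, zero_smul]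
      rw [← this, Nat.cast_smul_eq_nsmul]
    rw [← h1]
    exact addOrderOf_dvd_natCard v
  obtain ⟨v, hv, hv0⟩ := hG.exists_fixed_point_of_prime_dvd_card_of_fixed_point V hdvd
    (a := 0) (by intro g; rw [hsmul, map_zero])
  have hv0' : v ≠ 0 := fun h => hv0 h.symm
  have htop : stab ρ v = ⊤ := by
    rw [eq_top_iff]; intro g _; exact hv g
  have hall : ∀ w : V, ∀ g : G, ρ g w = w := by
    intro w g
    by_cases hw : w = 0
    · rw [hw, map_zero]
    · have h1 := hc w v hw hv0'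
      rw [htop, Subgroup.card_top] at h1
      have h2 := Subgroup.eq_top_of_card_eq _ h1
      have : g ∈ stab ρ w := by rw [h2]; trivial
      exact this
  intro w _ g _
  apply hρ
  rw [map_one]
  ext u
  exact hall u g

theorem exists_compl [hq : Fact q.Prime] [Finite G]
    (hqG : ¬ q ∣ Nat.card G) (U : Submodule (ZMod q) V) (hU : ∀ g : G, ∀ u ∈ U, ρ g u ∈ U) :
    ∃ W : Submodule (ZMod q) V, IsCompl U W ∧ ∀ g : G, ∀ w ∈ W, ρ g w ∈ W := by
  classical
  have := Fintype.ofFinite G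
  obtain ⟨W₀, hW₀⟩ := U.exists_isCompl
  let π : V →ₗ[ZMod q] V := U.subtype ∘ₗ (U.projectionOnto W₀ hW₀)
  have hπU : ∀ v, π v ∈ U := fun v => (U.projectionOnto W₀ hW₀ v).2
  have hπu : ∀ u ∈ U, π u = u := by
    intro u hu
    have := Submodule.projectionOnto_apply_left hW₀ (⟨u, hu⟩ : U)
    show ((U.projectionOnto W₀ hW₀ u : U) : V) = u
    rw [show u = ((⟨u, hu⟩ : U) : V) from rfl, this]
  let P : V →ₗ[ZMod q] V := ∑ a : G, (ρ a).toLinearMap ∘ₗ π ∘ₗ (ρ a⁻¹).toLinearMap
  have hP : ∀ v, P v = ∑ a : G, ρ a (π (ρ a⁻¹ v)) := by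
    intro v
    simp only [P, LinearMap.sum_apply, LinearMap.comp_apply, LinearEquiv.coe_coe]
  have hPU : ∀ v, P v ∈ U := by
    intro v
    rw [hP]
    exact Submodule.sum_mem _ fun a _ => hU a _ (hπU _)
  have hPu : ∀ u ∈ U, P u = (Nat.card G : ZMod q) • u := by
    intro u hu
    rw [hP]
    have h1 : ∀ a : G, ρ a (π (ρ a⁻¹ u)) = u := by
      intro a
      rw [hπu _ (hU _ _ hu), self_apply_inv]
    rw [Finset.sum_congr rfl fun a _ => h1 a, Finset.sum_const, Finset.card_univ,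
      Nat.card_eq_fintype_card, Nat.cast_smul_eq_nsmul]
  have hPρ : ∀ (b : G) (v : V), P (ρ b v) = ρ b (P v) := by
    intro b v
    rw [hP, hP, map_sum]
    refine Fintype.sum_equiv (Equiv.mulLeft b⁻¹) _ _ ?_
    intro a
    simp only [Equiv.coe_mulLeft, ← LinearEquiv.mul_apply, ← map_mul, mul_inv_rev, inv_inv]
    rw [mul_inv_cancel_left]
  have hunit : (Nat.card G : ZMod q) ≠ 0 := by
    rw [Ne, ZMod.natCast_eq_zero_iff]; exact hqG
  refine ⟨LinearMap.ker P, ?_, ?_⟩
  · constructor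
    · rw [Submodule.disjoint_def]
      intro u hu hk
      rw [LinearMap.mem_ker, hPu u hu] at hk
      exact (smul_eq_zero.1 hk).resolve_left hunit
    · rw [codisjoint_iff, eq_top_iff]
      intro v _
      rw [Submodule.mem_sup]
      refine ⟨(Nat.card G : ZMod q)⁻¹ • P v, U.smul_mem _ (hPU v), v - (Nat.card G : ZMod q)⁻¹ • P v, ?_, by abel⟩
      rw [LinearMap.mem_ker, map_sub, map_smul, hPu _ (hPU v), smul_smul, inv_mul_cancel₀ hunit,
        one_smul, sub_self]
  · intro g w hw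
    rw [LinearMap.mem_ker] at hw ⊢
    rw [hPρ, hw, map_zero]

/-- A half-transitive group that is reducible is semiregular. -/
theorem semireg_of_reducible [hq : Fact q.Prime] [Finite V] [Finite G] (hqG : ¬ q ∣ Nat.card G)
    (hρ : Function.Injective ρ)
    (hc : ∀ v w : V, v ≠ 0 → w ≠ 0 → Nat.card (stab ρ v) = Nat.card (stab ρ w)) (hred : ¬ Irred ρ) :
    ∀ w : V, w ≠ 0 → ∀ g : G, ρ g w = w → g = 1 := by
  unfold Irred at hred
  push Not at hred
  obtain ⟨U, hU, hU1, hU2⟩ := hred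
  obtain ⟨W, hUW, hW⟩ := exists_compl ρ hqG U hU
  have hW1 : W ≠ ⊥ := by
    rintro rfl
    apply hU2
    have := hUW.sup_eq_top
    rwa [sup_bot_eq] at this
  have hsum : ∀ u ∈ U, ∀ w ∈ W, stab ρ (u + w) ≤ stab ρ u ⊓ stab ρ w := by
    intro u hu w hw g hg
    rw [mem_stab, map_add] at hg
    have h1 : ρ g u - u = w - ρ g w := by
      rw [sub_eq_sub_iff_add_eq_add, hg, add_comm w u]
    have h2 : ρ g u - u ∈ U := U.sub_mem (hU g u hu) hu
    have h3 : ρ g u - u ∈ W := by rw [h1]; exact W.sub_mem hw (hW g w hw)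
    have h4 := Submodule.disjoint_def.1 hUW.disjoint _ h2 h3
    refine ⟨sub_eq_zero.1 h4, ?_⟩
    rw [h4] at h1
    exact (sub_eq_zero.1 h1.symm).symm
  obtain ⟨u₀, hu₀, hu₀'⟩ := U.exists_mem_ne_zero_of_ne_bot hU1
  obtain ⟨w₀, hw₀, hw₀'⟩ := W.exists_mem_ne_zero_of_ne_bot hW1
  have hne : ∀ u ∈ U, ∀ w ∈ W, u ≠ 0 → u + w ≠ 0 := by
    intro u hu w hw hu0 h
    apply hu0
    apply Submodule.disjoint_def.1 hUW.disjoint _ hu
    rw [eq_neg_of_add_eq_zero_left h]
    exact W.neg_mem hw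
  have heq : ∀ u ∈ U, ∀ w ∈ W, u ≠ 0 → w ≠ 0 → stab ρ u = stab ρ w := by
    intro u hu w hw hu0 hw0
    have h1 := hne u hu w hw hu0
    have h2 := stab_eq_of_le ρ hc h1 hu0 ((hsum u hu w hw).trans inf_le_left)
    have h3 := stab_eq_of_le ρ hc h1 hw0 ((hsum u hu w hw).trans inf_le_right)
    rw [← h2, ← h3]
  apply semireg_of_one ρ hc hu₀'
  rw [eq_bot_iff]
  intro g hg
  rw [Subgroup.mem_bot]
  apply hρ
  rw [map_one]
  ext v
  show ρ g v = v
  have hv : v ∈ U ⊔ W := by rw [hUW.sup_eq_top]; trivial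
  obtain ⟨u, hu, w, hw, rfl⟩ := Submodule.mem_sup.1 hv
  have hgw : ∀ w ∈ W, w ≠ 0 → ρ g w = w := by
    intro w hw hw0
    have : g ∈ stab ρ w := by rw [← heq u₀ hu₀ w hw hu₀' hw0]; exact hg
    exact this
  have hgu : ∀ u ∈ U, u ≠ 0 → ρ g u = u := by
    intro u hu hu0
    have : g ∈ stab ρ u := by rw [heq u hu w₀ hw₀ hu0 hw₀']; exact hgw w₀ hw₀ hw₀'
    exact this
  rw [map_add]
  congr 1
  · by_cases h : u = 0
    · rw [h, map_zero]
    · exact hgu u hu h
  · by_cases h : w = 0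
    · rw [h, map_zero]
    · exact hgw w hw h

/-- fixed vectors of a normal subgroup are trivial or everything -/
theorem fix_central (hirr : Irred ρ) (hρ : Function.Injective ρ) {z : G} (hz : ∀ g : G, g * z = z * g)
    (hz1 : z ≠ 1) {v : V} (hv : ρ z v = v) : v = 0 := by
  let U : Submodule (ZMod q) V := LinearMap.ker ((ρ z).toLinearMap - LinearMap.id)
  have hmem : ∀ u : V, u ∈ U ↔ ρ z u = u := by
    intro u
    simp only [U, LinearMap.mem_ker, LinearMap.sub_apply, LinearEquiv.coe_coe, LinearMap.id_apply,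
      sub_eq_zero]
  have hU : ∀ g : G, ∀ u ∈ U, ρ g u ∈ U := by
    intro g u hu
    rw [hmem] at hu ⊢
    rw [← LinearEquiv.mul_apply, ← map_mul, ← hz g, map_mul, LinearEquiv.mul_apply, hu]
  rcases hirr U hU with h | h
  · have : v ∈ U := (hmem v).2 hv
    rw [h] at this
    exact (Submodule.mem_bot _).1 this
  · exfalso
    apply hz1
    apply hρ
    rw [map_one]
    ext u
    have : u ∈ U := by rw [h]; trivial
    exact (hmem u).1 this

end Cfsg.Agent.H351.HT
end

-- part: H351/HalfTransConf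
section
set_option autoImplicit false
set_option linter.style.haveILetI false

/-!
# A noncyclic normal abelian subgroup gives a small normal elementary abelian subgroup
-/

namespace Cfsg.Agent.H351.HT

/-- In a `p`-group with a noncyclic abelian normal subgroup there is a normal elementary abelian
subgroup `⟨z⟩ × ⟨b⟩` of order `p ^ 2` with `z` central. -/
theorem exists_config {G : Type*} [Group G] [Finite G] {p : ℕ} [hp : Fact p.Prime] (hG : IsPGroup p G)
    (A : Subgroup G) [hA : A.Normal] (hAc : IsMulCommutative A) (hnc : ¬ IsCyclic A) :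
    ∃ z b : G, (∀ g : G, g * z = z * g) ∧ orderOf z = p ∧ b ^ p = 1 ∧ b ∉ Subgroup.zpowers z ∧
      ∀ g : G, ∃ i : ℕ, g * b * g⁻¹ = b * z ^ i := by
  have hcomm : ∀ a ∈ A, ∀ b ∈ A, a * b = b * a := fun a ha b hb =>
    congrArg Subtype.val (isMulCommutative_iff.1 hAc ⟨a, ha⟩ ⟨b, hb⟩)
  have hnu : ¬ Cfsg.Agent.Solvable.UniqueOrderP.UniqueP p A := by
    intro hU
    apply hnc
    obtain ⟨a, ha⟩ := Cfsg.Agent.Solvable.UniqueOrderP.exists_eq_zpowers_of_comm p (hG.to_subgroup A) hU ⊤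
      (by
        refine isMulCommutative_iff.2 ?_
        rintro ⟨a, -⟩ ⟨b, -⟩
        exact Subtype.ext (isMulCommutative_iff.1 hAc a b))
    exact isCyclic_iff_exists_zpowers_eq_top.2 ⟨a, ha.symm⟩
  rw [Cfsg.Agent.Solvable.UniqueOrderP.uniqueP_def] at hnu
  push Not at hnu
  obtain ⟨x, y, hx1, hxp, hyp, hxy⟩ := hnu
  let Ω : Subgroup G :=
    { carrier := {g | g ∈ A ∧ g ^ p = 1}
      one_mem' := ⟨A.one_mem, one_pow _⟩
      mul_mem' := by
        rintro a b ⟨ha, ha'⟩ ⟨hb, hb'⟩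
        refine ⟨A.mul_mem ha hb, ?_⟩
        have : Commute a b := hcomm a ha b hb
        rw [this.mul_pow, ha', hb', one_mul]
      inv_mem' := by
        rintro a ⟨ha, ha'⟩
        exact ⟨A.inv_mem ha, by rw [inv_pow, ha', inv_one]⟩ }
  have hΩmem : ∀ g, g ∈ Ω ↔ g ∈ A ∧ g ^ p = 1 := fun g => Iff.rfl
  have hΩn : Ω.Normal := by
    refine ⟨fun n hn g => ?_⟩
    rw [hΩmem] at hn ⊢
    exact ⟨hA.conj_mem n hn.1 g, by rw [conj_pow, hn.2]; group⟩
  have hxΩ : (x : G) ∈ Ω := ⟨x.2, by exact_mod_cast congrArg Subtype.val hxp⟩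
  have hyΩ : (y : G) ∈ Ω := ⟨y.2, by exact_mod_cast congrArg Subtype.val hyp⟩
  have hΩne : Ω ≠ ⊥ := by
    intro h
    rw [h, Subgroup.mem_bot] at hxΩ
    exact hx1 (Subtype.ext hxΩ)
  haveI : Group.IsNilpotent G := hG.isNilpotent
  have h1 := Cfsg.Agent.Lib.NormalAbelian.normal_inf_center_ne_bot Ω hΩne
  obtain ⟨⟨z, hz⟩, hz1⟩ := Subgroup.ne_bot_iff_exists_ne_one.1 h1
  have hzc : ∀ g : G, g * z = z * g := fun g => Subgroup.mem_center_iff.1 hz.2 g
  have hzo : orderOf (z : G) = p := orderOf_eq_prime hz.1.2 (fun h => hz1 (Subtype.ext h))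
  let Z := Subgroup.zpowers (z : G)
  haveI hZn : Z.Normal := by
    refine ⟨fun n hn g => ?_⟩
    obtain ⟨k, rfl⟩ := Subgroup.mem_zpowers_iff.1 hn
    rw [← conj_zpow, hzc g, mul_inv_cancel_right]
    exact Subgroup.zpow_mem_zpowers _ _
  have hZΩ : Z ≤ Ω := Subgroup.zpowers_le.2 hz.1
  have hne : ¬ Ω ≤ Z := by
    intro hle
    have hcard : Nat.card Z = p := by rw [Nat.card_zpowers, hzo]
    haveI : Fact (Nat.card Z).Prime := ⟨by rw [hcard]; exact hp.out⟩
    have hxne : (⟨x, hle hxΩ⟩ : Z) ≠ 1 := fun h =>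
      hx1 (Subtype.ext (congrArg (fun t : Z => (t : G)) h))
    have h2 := zpowers_eq_top_of_prime_card rfl hxne
    have h3 : (⟨y, hle hyΩ⟩ : Z) ∈ Subgroup.zpowers (⟨x, hle hxΩ⟩ : Z) := by rw [h2]; trivial
    obtain ⟨k, hk⟩ := Subgroup.mem_zpowers_iff.1 h3
    apply hxy
    refine Subgroup.mem_zpowers_iff.2 ⟨k, Subtype.ext ?_⟩
    simpa using congrArg Subtype.val hk
  let Q := G ⧸ Z
  haveI : Group.IsNilpotent Q := (hG.to_quotient Z).isNilpotent
  let Ω' : Subgroup Q := Ω.map (QuotientGroup.mk' Z)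
  haveI : Ω'.Normal := hΩn.map _ (QuotientGroup.mk'_surjective Z)
  have hΩ'ne : Ω' ≠ ⊥ := by
    intro h
    apply hne
    have := (Subgroup.map_eq_bot_iff Ω).1 h
    rwa [QuotientGroup.ker_mk'] at this
  have h2 := Cfsg.Agent.Lib.NormalAbelian.normal_inf_center_ne_bot Ω' hΩ'ne
  obtain ⟨⟨c, hc⟩, hc1⟩ := Subgroup.ne_bot_iff_exists_ne_one.1 h2
  obtain ⟨b, hb, hbc⟩ := hc.1
  have hbZ : b ∉ Z := by
    intro h
    apply hc1
    apply Subtype.ext
    show c = 1
    rw [← hbc]
    exact (QuotientGroup.eq_one_iff b).2 h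
  refine ⟨z, b, hzc, hzo, hb.2, hbZ, ?_⟩
  intro g
  have h3 := Subgroup.mem_center_iff.1 hc.2 (QuotientGroup.mk' Z g)
  have h4 : QuotientGroup.mk' Z b = QuotientGroup.mk' Z (g * b * g⁻¹) := by
    rw [map_mul, map_mul, map_inv, hbc, h3, mul_inv_cancel_right]
  have h5 : b⁻¹ * (g * b * g⁻¹) ∈ Z := QuotientGroup.eq.1 h4
  obtain ⟨k, hk⟩ := (Submonoid.mem_powers_iff _ _).1 (mem_powers_iff_mem_zpowers.2 h5)
  exact ⟨k, by rw [hk]; group⟩

end Cfsg.Agent.H351.HT
end
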