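import Cfsg.Agent.H351.HalfTransConf
import Cfsg.Agent.H351.HalfTransNT
import Cfsg.Agent.TwoFusion.QDBasic
import Cfsg.Agent.S1189
import Cfsg.Agent.S0519
import Cfsg.Agent.TwoFusion.QuatCover
set_option linter.all false

-- part: H351/HalfTransOdd
section
set_option autoImplicit false
set_option linter.style.haveILetI false

/-!
# Half-transitive linear `p`-groups with a noncyclic normal abelian subgroup: the eigenspaces
-/

namespace Cfsg.Agent.H351.HT

variable {q : ℕ} {V : Type*} [AddCommGroup V] [Module (ZMod q) V]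
  {G : Type*} [Group G] (ρ : G →* (V ≃ₗ[ZMod q] V))

/-- the configuration found in `exists_config` -/
structure Conf (p : ℕ) (z b : G) : Prop where
  zc : ∀ g : G, g * z = z * g
  zo : orderOf z = p
  bp : b ^ p = 1
  bz : b ∉ Subgroup.zpowers z
  conj : ∀ g : G, ∃ i : ℤ, g * b * g⁻¹ = b * z ^ i

variable {ρ} {p : ℕ} {z b : G}

theorem Conf.zpc (h : Conf p z b) (j : ℤ) (g : G) : g * z ^ j = z ^ j * g :=
  (Commute.zpow_right (show Commute g z from h.zc g) j).eq

theorem Conf.zpow_ne_one (h : Conf p z b) {j : ℤ} (hj : ¬ (p : ℤ) ∣ j) : z ^ j ≠ 1 := by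
  intro h1
  apply hj
  rw [← h.zo]
  exact orderOf_dvd_iff_zpow_eq_one.2 h1

theorem Conf.zpow_eq_one (h : Conf p z b) {j : ℤ} (hj : (p : ℤ) ∣ j) : z ^ j = 1 := by
  rw [← h.zo] at hj
  exact orderOf_dvd_iff_zpow_eq_one.1 hj

/-- `v` is fixed by `b z ^ j` -/
def Fx (ρ : G →* (V ≃ₗ[ZMod q] V)) (z b : G) (j : ℤ) (v : V) : Prop := ρ (b * z ^ j) v = v

theorem Conf.fx_shift (h : Conf p z b) {g : G} {c : ℤ} (hg : g * b * g⁻¹ = b * z ^ c) {j : ℤ} {v : V}
    (hv : Fx ρ z b j v) : Fx ρ z b (j + c) (ρ g v) := by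
  unfold Fx at *
  rw [← LinearEquiv.mul_apply, ← map_mul]
  have : b * z ^ (j + c) * g = g * (b * z ^ j) := by
    have h1 : g * b = b * z ^ c * g := by rw [← hg]; group
    calc b * z ^ (j + c) * g = b * z ^ c * (z ^ j * g) := by rw [add_comm, zpow_add]; group
      _ = b * z ^ c * (g * z ^ j) := by rw [h.zpc j g]
      _ = (b * z ^ c * g) * z ^ j := by group
      _ = g * (b * z ^ j) := by rw [← h1]; group
  rw [this, map_mul, LinearEquiv.mul_apply, hv]

theorem Conf.fx_congr (h : Conf p z b) {i j : ℤ} (hij : (p : ℤ) ∣ i - j) {v : V}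
    (hv : Fx ρ z b i v) : Fx ρ z b j v := by
  unfold Fx at *
  have : z ^ j = z ^ i := by
    have h1 := h.zpow_eq_one hij
    rw [zpow_sub, mul_inv_eq_one] at h1
    exact h1.symm
  rw [this]; exact hv

/-- the projections -/
noncomputable def pj (ρ : G →* (V ≃ₗ[ZMod q] V)) (p : ℕ) (z b : G) (j : ℤ) : V →ₗ[ZMod q] V :=
  ∑ k ∈ Finset.range p, (ρ ((b * z ^ j) ^ k)).toLinearMap

theorem pj_apply (j : ℤ) (v : V) : pj ρ p z b j v = ∑ k ∈ Finset.range p, ρ ((b * z ^ j) ^ k) v := by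
  simp [pj, LinearMap.sum_apply]

theorem Conf.pow_bz (h : Conf p z b) (j : ℤ) (k : ℕ) : (b * z ^ j) ^ k = b ^ k * z ^ (j * k) := by
  have : Commute b (z ^ j) := h.zpc j b
  rw [this.mul_pow, ← zpow_natCast (z ^ j) k, ← zpow_mul]

theorem fx_pow {i : ℤ} {v : V} (hv : Fx ρ z b i v) (k : ℕ) : ρ ((b * z ^ i) ^ k) v = v := by
  unfold Fx at hv
  induction k with
  | zero => simp
  | succ k ih => rw [pow_succ, map_mul, LinearEquiv.mul_apply, hv, ih]

theorem Conf.pj_self (h : Conf p z b) {i j : ℤ} (hij : (p : ℤ) ∣ i - j) {v : V}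
    (hv : Fx ρ z b i v) : pj ρ p z b j v = (p : ZMod q) • v := by
  rw [pj_apply, Finset.sum_congr rfl fun k _ => fx_pow (h.fx_congr hij hv) k]
  rw [Finset.sum_const, Finset.card_range, Nat.cast_smul_eq_nsmul]

theorem Conf.zsum (h : Conf p z b) (hirr : Irred ρ) (hρ : Function.Injective ρ) {m : ℤ}
    (hm : ¬ (p : ℤ) ∣ m) (v : V) : ∑ k ∈ Finset.range p, ρ (z ^ (m * k)) v = 0 := by
  apply fix_central ρ hirr hρ (z := z ^ m) (fun g => h.zpc m g) (h.zpow_ne_one hm)
  rw [map_sum]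
  have h1 : ∀ k : ℕ, ρ (z ^ m) (ρ (z ^ (m * k)) v) = ρ (z ^ (m * (k + 1 : ℕ))) v := by
    intro k
    rw [← LinearEquiv.mul_apply, ← map_mul, ← zpow_add]
    congr 3
    push_cast; ring
  rw [Finset.sum_congr rfl fun k _ => h1 k]
  have h2 := Finset.sum_range_succ (fun k : ℕ => ρ (z ^ (m * k)) v) p
  have h3 := Finset.sum_range_succ' (fun k : ℕ => ρ (z ^ (m * k)) v) p
  rw [h2] at h3
  have h4 : z ^ (m * (p : ℕ)) = 1 := h.zpow_eq_one (Dvd.intro_left m rfl)
  rw [h4] at h3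
  simp only [Nat.cast_zero, mul_zero, zpow_zero] at h3
  exact (add_right_cancel h3).symm

theorem Conf.pj_ne (h : Conf p z b) (hirr : Irred ρ) (hρ : Function.Injective ρ) {i j : ℤ}
    (hij : ¬ (p : ℤ) ∣ i - j) {v : V} (hv : Fx ρ z b i v) : pj ρ p z b j v = 0 := by
  rw [pj_apply]
  have h1 : ∀ k : ℕ, ρ ((b * z ^ j) ^ k) v = ρ (z ^ ((j - i) * k)) v := by
    intro k
    have : (b * z ^ j) ^ k = z ^ ((j - i) * k) * (b * z ^ i) ^ k := by
      rw [h.pow_bz, h.pow_bz, ← mul_assoc, ← h.zpc, mul_assoc, ← zpow_add]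
      congr 2
      ring
    rw [this, map_mul, LinearEquiv.mul_apply, fx_pow hv]
  rw [Finset.sum_congr rfl fun k _ => h1 k]
  apply h.zsum hirr hρ
  intro h2
  exact hij ((dvd_sub_comm).1 h2)

theorem Conf.exists_fx [Fact p.Prime] (h : Conf p z b) (hirr : Irred ρ) (hρ : Function.Injective ρ)
    (hpq : (p : ZMod q) ≠ 0) [Fact q.Prime] [Nontrivial V] :
    ∃ (j : ℤ) (v : V), v ≠ 0 ∧ Fx ρ z b j v := by
  obtain ⟨v, hv⟩ := exists_ne (0 : V)
  have hp : p.Prime := Fact.out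
  have hfix : ∀ (j : ℤ) (u : V), Fx ρ z b j (pj ρ p z b j u) := by
    intro j u
    unfold Fx
    rw [pj_apply, map_sum]
    have h1 : ∀ k : ℕ, ρ (b * z ^ j) (ρ ((b * z ^ j) ^ k) u) = ρ ((b * z ^ j) ^ (k + 1)) u := by
      intro k
      rw [← LinearEquiv.mul_apply, ← map_mul, ← pow_succ']
    rw [Finset.sum_congr rfl fun k _ => h1 k]
    have h2 := Finset.sum_range_succ (fun k : ℕ => ρ ((b * z ^ j) ^ k) u) p
    have h3 := Finset.sum_range_succ' (fun k : ℕ => ρ ((b * z ^ j) ^ k) u) p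
    rw [h2] at h3
    have h4 : (b * z ^ j) ^ p = 1 := by
      rw [h.pow_bz, h.bp, one_mul]
      exact h.zpow_eq_one (Dvd.intro_left j rfl)
    rw [h4] at h3
    simp only [pow_zero] at h3
    exact (add_right_cancel h3).symm
  by_contra hcon
  push Not at hcon
  have h0 : ∀ j : ℤ, pj ρ p z b j v = 0 := by
    intro j
    by_contra hne
    exact hcon j _ hne (hfix j v)
  have hsum : ∑ j ∈ Finset.range p, pj ρ p z b (j : ℤ) v = (p : ZMod q) • v := by
    have h1 : ∀ j : ℕ, pj ρ p z b (j : ℤ) v = ∑ k ∈ Finset.range p, ρ (b ^ k) (ρ (z ^ ((k : ℤ) * j)) v) := by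
      intro j
      rw [pj_apply]
      apply Finset.sum_congr rfl
      intro k _
      rw [h.pow_bz, map_mul, LinearEquiv.mul_apply, mul_comm (j : ℤ)]
    rw [Finset.sum_congr rfl fun j _ => h1 j, Finset.sum_comm]
    have h2 : ∀ k ∈ Finset.range p, k ≠ 0 →
        ∑ j ∈ Finset.range p, ρ (b ^ k) (ρ (z ^ ((k : ℤ) * j)) v) = 0 := by
      intro k hk hk0
      rw [← map_sum, h.zsum hirr hρ, map_zero]
      intro hd
      have := Nat.le_of_dvd (Nat.pos_of_ne_zero hk0) (Int.natCast_dvd_natCast.1 hd)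
      rw [Finset.mem_range] at hk
      omega
    rw [Finset.sum_eq_single_of_mem 0 (Finset.mem_range.2 hp.pos) (fun k hk hk0 => h2 k hk hk0)]
    simp [Nat.cast_smul_eq_nsmul]
  rw [Finset.sum_eq_zero (fun (j : ℕ) _ => h0 (j : ℤ))] at hsum
  rcases smul_eq_zero.1 hsum.symm with h5 | h5
  · exact hpq h5
  · exact hv h5

/-- `b` is not central -/
theorem Conf.exists_move [Fact p.Prime] (h : Conf p z b) (hirr : Irred ρ) (hρ : Function.Injective ρ)
    (hpq : (p : ZMod q) ≠ 0) [Fact q.Prime] [Nontrivial V] :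
    ∃ (g : G) (c : ℤ), ¬ (p : ℤ) ∣ c ∧ g * b * g⁻¹ = b * z ^ c := by
  obtain ⟨j, v, hv0, hv⟩ := h.exists_fx hirr hρ hpq
  by_contra hcon
  push Not at hcon
  have hbc : ∀ g : G, g * b = b * g := by
    intro g
    obtain ⟨c, hc⟩ := h.conj g
    have h1 : (p : ℤ) ∣ c := by
      by_contra h2
      exact hcon g c h2 hc
    rw [h.zpow_eq_one h1, mul_one] at hc
    exact mul_inv_eq_iff_eq_mul.1 hc
  apply hv0
  refine fix_central ρ hirr hρ (z := b * z ^ j) (fun g => ?_) ?_ hv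
  · rw [← mul_assoc, hbc, mul_assoc, h.zpc, mul_assoc]
  · intro h1
    apply h.bz
    rw [mul_eq_one_iff_eq_inv] at h1
    rw [h1]
    exact Subgroup.inv_mem _ (Subgroup.zpow_mem_zpowers _ _)

theorem Conf.stab_le (h : Conf p z b) [Fact p.Prime] (hp2 : p ≠ 2) (hirr : Irred ρ)
    (hρ : Function.Injective ρ) (hpq : (p : ZMod q) ≠ 0) [Fact q.Prime] {i j : ℤ}
    (hij : ¬ (p : ℤ) ∣ i - j) {v w : V} (hv : Fx ρ z b i v) (hw : Fx ρ z b j w)
    (hv0 : v ≠ 0) (hw0 : w ≠ 0) : stab ρ (v + w) ≤ stab ρ v ⊓ stab ρ w := by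
  intro g hg
  rw [mem_stab, map_add] at hg
  have hp : p.Prime := Fact.out
  obtain ⟨c, hc⟩ := h.conj g
  have hgv := h.fx_shift (ρ := ρ) hc hv
  have hgw := h.fx_shift (ρ := ρ) hc hw
  have hgv0 : ρ g v ≠ 0 := fun h1 => hv0 ((ρ g).map_eq_zero_iff.1 h1)
  have hgw0 : ρ g w ≠ 0 := fun h1 => hw0 ((ρ g).map_eq_zero_iff.1 h1)
  have hji : ¬ (p : ℤ) ∣ j - i := fun h1 => hij ((dvd_sub_comm).1 h1)
  by_cases hpc : (p : ℤ) ∣ c
  · have h1 := congrArg (pj ρ p z b i) hg
    rw [map_add, map_add, h.pj_self (by simpa using hpc) hgv, h.pj_self (by simp) hv,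
      h.pj_ne hirr hρ ?_ hgw, h.pj_ne hirr hρ hji hw, add_zero, add_zero] at h1
    · have h2 : ρ g v = v := smul_right_injective V hpq h1
      refine ⟨h2, ?_⟩
      rw [h2] at hg
      exact add_left_cancel hg
    · intro h3
      apply hji
      have : j - i = (j + c - i) - c := by ring
      rw [this]; exact dvd_sub h3 hpc
  · exfalso
    by_cases h3 : (p : ℤ) ∣ i + c - j
    · have h1 := congrArg (pj ρ p z b (j + c)) hg
      rw [map_add, map_add, h.pj_self (by simp) hgw, h.pj_ne hirr hρ ?_ hgv,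
        h.pj_ne hirr hρ ?_ hv, h.pj_ne hirr hρ ?_ hw, zero_add, add_zero] at h1
      · rcases smul_eq_zero.1 h1 with h5 | h5
        · exact hpq h5
        · exact hgw0 h5
      · intro h4; apply hpc
        have : c = -(j - (j + c)) := by ring
        rw [this]; exact (dvd_neg).2 h4
      · intro h4
        have h5 : (p : ℤ) ∣ 2 * c := by
          have : 2 * c = (i + c - j) - (i - (j + c)) := by ring
          rw [this]; exact dvd_sub h3 h4
        rcases (Nat.prime_iff_prime_int.1 hp).dvd_or_dvd h5 with h6 | h6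
        · have h7 : p ∣ 2 := by exact_mod_cast h6
          exact hp2 ((Nat.prime_dvd_prime_iff_eq hp Nat.prime_two).1 h7)
        · exact hpc h6
      · intro h4; apply hij
        have : i - j = i + c - (j + c) := by ring
        rw [this]; exact h4
    · have h1 := congrArg (pj ρ p z b (i + c)) hg
      rw [map_add, map_add, h.pj_self (by simp) hgv, h.pj_ne hirr hρ ?_ hgw,
        h.pj_ne hirr hρ ?_ hv, h.pj_ne hirr hρ ?_ hw, zero_add, add_zero] at h1
      · rcases smul_eq_zero.1 h1 with h5 | h5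
        · exact hpq h5
        · exact hgv0 h5
      · intro h4; exact h3 ((dvd_sub_comm).1 h4)
      · intro h4; apply hpc
        have : c = -(i - (i + c)) := by ring
        rw [this]; exact (dvd_neg).2 h4
      · intro h4; apply hji
        have : j - i = j + c - (i + c) := by ring
        rw [this]; exact h4

/-- For odd `p`, a half-transitive linear `p`-group with the configuration is semiregular. -/
theorem Conf.semireg_odd (h : Conf p z b) [Fact p.Prime] [Finite G] (hp2 : p ≠ 2) (hirr : Irred ρ)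
    (hρ : Function.Injective ρ) (hpq : (p : ZMod q) ≠ 0) [Fact q.Prime] [Nontrivial V]
    (hc : ∀ v w : V, v ≠ 0 → w ≠ 0 → Nat.card (stab ρ v) = Nat.card (stab ρ w)) :
    ∀ w : V, w ≠ 0 → ∀ g : G, ρ g w = w → g = 1 := by
  have heq : ∀ (i j : ℤ) (v w : V), ¬ (p : ℤ) ∣ i - j → Fx ρ z b i v → Fx ρ z b j w →
      v ≠ 0 → w ≠ 0 → stab ρ v = stab ρ w := by
    intro i j v w hij hv hw hv0 hw0
    have hle := h.stab_le hp2 hirr hρ hpq hij hv hw hv0 hw0
    have hne : v + w ≠ 0 := by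
      intro h1
      have h2 := congrArg (pj ρ p z b i) h1
      rw [map_add, h.pj_self (by simp) hv, h.pj_ne hirr hρ (fun h3 => hij ((dvd_sub_comm).1 h3)) hw,
        add_zero, map_zero] at h2
      rcases smul_eq_zero.1 h2 with h5 | h5
      · exact hpq h5
      · exact hv0 h5
    rw [← stab_eq_of_le ρ hc hne hv0 (hle.trans inf_le_left),
      ← stab_eq_of_le ρ hc hne hw0 (hle.trans inf_le_right)]
  obtain ⟨i, v, hv0, hv⟩ := h.exists_fx hirr hρ hpq
  obtain ⟨g₀, c, hpc, hgc⟩ := h.exists_move hirr hρ hpq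
  have hw := h.fx_shift (ρ := ρ) hgc hv
  have hw0 : ρ g₀ v ≠ 0 := fun h1 => hv0 ((ρ g₀).map_eq_zero_iff.1 h1)
  have hvw : stab ρ v = stab ρ (ρ g₀ v) := by
    refine heq i (i + c) _ _ ?_ hv hw hv0 hw0
    intro h1; apply hpc
    have : c = -(i - (i + c)) := by ring
    rw [this]; exact (dvd_neg).2 h1
  have hall : ∀ (j : ℤ) (u : V), Fx ρ z b j u → u ≠ 0 → stab ρ u = stab ρ v := by
    intro j u hu hu0
    by_cases hji : (p : ℤ) ∣ j - i
    · rw [hvw]
      refine heq j (i + c) _ _ ?_ hu hw hu0 hw0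
      intro h1; apply hpc
      have : c = (j - i) - (j - (i + c)) := by ring
      rw [this]; exact dvd_sub hji h1
    · exact heq j i _ _ hji hu hv hu0 hv0
  apply semireg_of_one ρ hc hv0
  let U : Submodule (ZMod q) V :=
    { carrier := {u | ∀ d ∈ stab ρ v, ρ d u = u}
      add_mem' := by intro a b ha hb d hd; rw [map_add, ha d hd, hb d hd]
      zero_mem' := by intro d _; rw [map_zero]
      smul_mem' := by intro r a ha d hd; rw [map_smul, ha d hd] }
  have hUmem : ∀ u, u ∈ U ↔ ∀ d ∈ stab ρ v, ρ d u = u := fun u => Iff.rfl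
  have hnorm : ∀ g : G, ∀ d ∈ stab ρ v, g⁻¹ * d * g ∈ stab ρ v := by
    intro g d hd
    obtain ⟨c', hc'⟩ := h.conj g
    have h1 := h.fx_shift (ρ := ρ) hc' hv
    have h2 : ρ g v ≠ 0 := fun h1 => hv0 ((ρ g).map_eq_zero_iff.1 h1)
    have h3 := hall _ _ h1 h2
    rw [← h3, mem_stab] at hd
    rw [mem_stab, map_mul, map_mul, LinearEquiv.mul_apply, LinearEquiv.mul_apply, hd, inv_apply_self]
  have hUinv : ∀ g : G, ∀ u ∈ U, ρ g u ∈ U := by
    intro g u hu d hd
    have h1 := hu _ (hnorm g d hd)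
    rw [map_mul, map_mul, LinearEquiv.mul_apply, LinearEquiv.mul_apply] at h1
    rw [← self_apply_inv ρ g (ρ d (ρ g u)), h1]
  rcases hirr U hUinv with h1 | h1
  · exfalso
    apply hv0
    have : v ∈ U := fun d hd => hd
    rw [h1] at this
    exact (Submodule.mem_bot _).1 this
  · rw [eq_bot_iff]
    intro d hd
    rw [Subgroup.mem_bot]
    apply hρ
    rw [map_one]
    ext u
    have : u ∈ U := by rw [h1]; trivial
    exact this d hd

end Cfsg.Agent.H351.HT
end

-- part: H351/HalfTransEven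
section
set_option autoImplicit false
set_option linter.style.haveILetI false

/-!
# Half-transitive linear `2`-groups with a noncyclic normal abelian subgroup: two blocks
-/

namespace Cfsg.Agent.H351.HT

variable {q : ℕ} {V : Type*} [AddCommGroup V] [Module (ZMod q) V]
  {G : Type*} [Group G] {ρ : G →* (V ≃ₗ[ZMod q] V)} {z b : G}

theorem Conf.z_neg (h : Conf 2 z b) (hirr : Irred ρ) (hρ : Function.Injective ρ) (v : V) :
    ρ z v = - v := by
  have h1 : ρ z (v + ρ z v) = v + ρ z v := by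
    have h2 : z * z = 1 := by rw [← pow_two, ← h.zo, pow_orderOf_eq_one]
    rw [map_add, ← LinearEquiv.mul_apply, ← map_mul, h2, map_one, add_comm]
    rfl
  have h3 := fix_central ρ hirr hρ h.zc (by
    intro h4; have := h.zo; rw [h4, orderOf_one] at this; omega) h1
  exact (neg_eq_of_add_eq_zero_right h3).symm

theorem Conf.b_invol (h : Conf 2 z b) (v : V) : ρ b (ρ b v) = v := by
  rw [← LinearEquiv.mul_apply, ← map_mul, ← pow_two, h.bp, map_one]; rfl

theorem Conf.conj_cases (h : Conf 2 z b) (g : G) : g * b = b * g ∨ g * b = b * z * g := by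
  obtain ⟨c, hc⟩ := h.conj g
  rcases Int.even_or_odd' c with ⟨k, rfl | rfl⟩
  · left
    have h1 : z ^ (2 * k) = 1 := h.zpow_eq_one (by simp)
    rw [h1, mul_one] at hc
    exact mul_inv_eq_iff_eq_mul.1 hc
  · right
    have h1 : z ^ (2 * k) = 1 := h.zpow_eq_one (by simp)
    rw [zpow_add, h1, one_mul, zpow_one] at hc
    exact mul_inv_eq_iff_eq_mul.1 hc

/-- commuting elements preserve the `±1` eigenspaces of `b` -/
theorem Conf.comm_pres (g : G) (hg : g * b = b * g) (v : V) : ρ b (ρ g v) = ρ g (ρ b v) := by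
  rw [← LinearEquiv.mul_apply, ← map_mul, ← hg, map_mul]; rfl

theorem Conf.swap_pres (h : Conf 2 z b) (hirr : Irred ρ) (hρ : Function.Injective ρ) (g : G)
    (hg : g * b = b * z * g) (v : V) : ρ b (ρ g v) = - ρ g (ρ b v) := by
  have h1 : ρ b (ρ z (ρ g v)) = ρ g (ρ b v) := by
    rw [← LinearEquiv.mul_apply, ← LinearEquiv.mul_apply, ← map_mul, ← map_mul, ← hg, map_mul]; rfl
  rw [h.z_neg hirr hρ, map_neg] at h1
  rw [← h1, neg_neg]

theorem eq_zero_of_eq_neg (h2 : (2 : ZMod q) ≠ 0) [Fact q.Prime] {v : V} (h : v = -v) : v = 0 := by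
  have h1 : (2 : ZMod q) • v = 0 := by
    rw [two_smul]
    nth_rewrite 1 [h]
    exact neg_add_cancel v
  exact (smul_eq_zero.1 h1).resolve_left h2

theorem Conf.swap_self (h : Conf 2 z b) : Conf 2 z (b * z) where
  zc := h.zc
  zo := h.zo
  bp := by
    have h1 : Commute b z := h.zc b
    have h2 : z ^ 2 = 1 := by rw [← h.zo, pow_orderOf_eq_one]
    rw [h1.mul_pow, h.bp, h2, one_mul]
  bz := by
    intro h1
    apply h.bz
    have := Subgroup.mul_mem _ h1 (Subgroup.inv_mem _ (Subgroup.mem_zpowers z))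
    rwa [mul_inv_cancel_right] at this
  conj := by
    intro g
    obtain ⟨i, hi⟩ := h.conj g
    refine ⟨i, ?_⟩
    have h1 : g * (b * z) * g⁻¹ = (g * b * g⁻¹) * (g * z * g⁻¹) := by group
    rw [h1, hi, h.zc g, mul_inv_cancel_right]
    have h2 : z ^ i * z = z * z ^ i := by rw [← zpow_add_one, ← zpow_one_add, add_comm]
    rw [mul_assoc, h2, mul_assoc]

theorem Conf.bz_neg (h : Conf 2 z b) (hirr : Irred ρ) (hρ : Function.Injective ρ) (v : V) :
    ρ (b * z) v = - ρ b v := by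
  rw [map_mul, LinearEquiv.mul_apply, h.z_neg hirr hρ, map_neg]

/-- the fixed space of `b` is irreducible under the centraliser of `b` -/
theorem Conf.irred_block (h : Conf 2 z b) (hirr : Irred ρ) (hρ : Function.Injective ρ)
    (h2 : (2 : ZMod q) ≠ 0) [Fact q.Prime]
    {g₀ : G} (hg₀ : g₀ * b = b * z * g₀) (U : Submodule (ZMod q) V) (hUb : ∀ u ∈ U, ρ b u = u)
    (hU : ∀ g : G, g * b = b * g → ∀ u ∈ U, ρ g u ∈ U) (hU0 : U ≠ ⊥) (v : V) (hv : ρ b v = v) :
    v ∈ U := by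
  have hmul : ∀ g k : G, g * b = b * z * g → k * b = b * z * k → (g * k) * b = b * (g * k) := by
    intro g k hg hk
    have h3 : z * z = 1 := by rw [← pow_two, ← h.zo, pow_orderOf_eq_one]
    calc g * k * b = g * (k * b) := by group
      _ = g * b * z * k := by rw [hk]; group
      _ = b * z * (g * z) * k := by rw [hg]; group
      _ = b * (z * z) * g * k := by rw [h.zc g]; group
      _ = b * (g * k) := by rw [h3]; group
  have hinv : g₀⁻¹ * b = b * z * g₀⁻¹ := by
    have h3 : z * z = 1 := by rw [← pow_two, ← h.zo, pow_orderOf_eq_one]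
    have h4 : b * g₀⁻¹ = g₀⁻¹ * (b * z) := by
      have : g₀ * b * g₀⁻¹ = b * z := by rw [hg₀]; group
      rw [← this]; group
    calc g₀⁻¹ * b = g₀⁻¹ * b * (z * z) := by rw [h3, mul_one]
      _ = (g₀⁻¹ * (b * z)) * z := by group
      _ = b * (g₀⁻¹ * z) := by rw [← h4]; group
      _ = b * z * g₀⁻¹ := by rw [h.zc]; group
  have hmul' : ∀ g k : G, g * b = b * g → k * b = b * z * k → (g * k) * b = b * z * (g * k) := by
    intro g k hg hk
    calc g * k * b = g * (k * b) := by group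
      _ = g * b * z * k := by rw [hk]; group
      _ = b * (g * z) * k := by rw [hg]; group
      _ = b * z * (g * k) := by rw [h.zc g]; group
  let W : Submodule (ZMod q) V := U ⊔ U.map (ρ g₀).toLinearMap
  have hWinv : ∀ g : G, ∀ w ∈ W, ρ g w ∈ W := by
    intro g w hw
    obtain ⟨u, hu, _, ⟨u', hu', rfl⟩, rfl⟩ := Submodule.mem_sup.1 hw
    rw [map_add]
    show ρ g u + ρ g (ρ g₀ u') ∈ W
    rcases h.conj_cases g with hg | hg
    · refine Submodule.add_mem _ (Submodule.mem_sup_left (hU g hg u hu)) (Submodule.mem_sup_right ?_)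
      refine ⟨ρ (g₀⁻¹ * (g * g₀)) u', hU _ (hmul _ _ hinv (hmul' _ _ hg hg₀)) u' hu', ?_⟩
      show ρ g₀ (ρ (g₀⁻¹ * (g * g₀)) u') = ρ g (ρ g₀ u')
      rw [map_mul, LinearEquiv.mul_apply, self_apply_inv, map_mul, LinearEquiv.mul_apply]
    · refine Submodule.add_mem _ (Submodule.mem_sup_right ?_) (Submodule.mem_sup_left ?_)
      · refine ⟨ρ (g₀⁻¹ * g) u, hU _ (hmul _ _ hinv hg) u hu, ?_⟩
        show ρ g₀ (ρ (g₀⁻¹ * g) u) = ρ g u
        rw [map_mul, LinearEquiv.mul_apply, self_apply_inv]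
      · rw [← LinearEquiv.mul_apply, ← map_mul]
        exact hU _ (hmul _ _ hg hg₀) u' hu'
  rcases hirr W hWinv with h3 | h3
  · exfalso
    apply hU0
    rw [eq_bot_iff, ← h3]
    exact le_sup_left
  · have hvW : v ∈ W := by rw [h3]; trivial
    obtain ⟨u, hu, _, ⟨u', hu', rfl⟩, h4⟩ := Submodule.mem_sup.1 hvW
    change u + ρ g₀ u' = v at h4
    have h5 : ρ b (ρ g₀ u') = - ρ g₀ u' := by
      rw [h.swap_pres hirr hρ g₀ hg₀, hUb u' hu']
    have h6 : ρ b (ρ g₀ u') = ρ g₀ u' := by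
      have : ρ g₀ u' = v - u := by rw [← h4]; abel
      rw [this, map_sub, hv, hUb u hu]
    have h7 : ρ g₀ u' = 0 := eq_zero_of_eq_neg h2 (by rw [← h5, h6])
    rw [h7, add_zero] at h4
    rw [← h4]; exact hu

/-- stabiliser of a sum of block vectors in different orbits -/
theorem Conf.stab_two (h : Conf 2 z b) (hirr : Irred ρ) (hρ : Function.Injective ρ)
    (h2 : (2 : ZMod q) ≠ 0) [Fact q.Prime] [Finite G]
    (hc : ∀ v w : V, v ≠ 0 → w ≠ 0 → Nat.card (stab ρ v) = Nat.card (stab ρ w))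
    {v w : V} (hv : ρ b v = v) (hw : ρ b w = -w) (hv0 : v ≠ 0) (hw0 : w ≠ 0)
    (hvw : ∀ g : G, ρ g v ≠ w) : stab ρ v = stab ρ w := by
  have hle : stab ρ (v + w) ≤ stab ρ v ⊓ stab ρ w := by
    intro g hg
    rw [mem_stab] at hg
    have hg' : ρ g v + ρ g w = v + w := by rw [← map_add, hg]
    have hb := congrArg (ρ b) hg'
    rw [map_add, map_add, hv, hw] at hb
    rcases h.conj_cases g with hgb | hgb
    · rw [Conf.comm_pres g hgb, Conf.comm_pres g hgb, hv, hw, map_neg] at hb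
      have h4 : (2 : ZMod q) • ρ g v = (2 : ZMod q) • v := by
        rw [two_smul, two_smul]
        have e1 : ρ g v + ρ g v = (ρ g v + ρ g w) + (ρ g v + -ρ g w) := by abel
        rw [e1, hg', hb]; abel
      have h5 : ρ g v = v := smul_right_injective V h2 h4
      refine ⟨h5, ?_⟩
      rw [h5] at hg'
      exact add_left_cancel hg'
    · exfalso
      rw [h.swap_pres hirr hρ g hgb, h.swap_pres hirr hρ g hgb, hv, hw, map_neg, neg_neg] at hb
      have h4 : (2 : ZMod q) • ρ g v = (2 : ZMod q) • w := by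
        rw [two_smul, two_smul]
        have e1 : ρ g v + ρ g v = (ρ g v + ρ g w) - (-ρ g v + ρ g w) := by abel
        rw [e1, hg', hb]; abel
      exact hvw g (smul_right_injective V h2 h4)
  have hne : v + w ≠ 0 := by
    intro h1
    have h3 : v = -w := eq_neg_of_add_eq_zero_left h1
    have h4 : ρ b v = - ρ b w := by rw [h3, map_neg]
    rw [hv, hw, neg_neg] at h4
    apply hv0
    apply eq_zero_of_eq_neg h2
    nth_rewrite 1 [h3]
    rw [h4]
  rw [← stab_eq_of_le ρ hc hne hv0 (hle.trans inf_le_left),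
    ← stab_eq_of_le ρ hc hne hw0 (hle.trans inf_le_right)]

/-- the vectors in a block on whose orbit `D` acts trivially -/
theorem Conf.fix_block (h : Conf 2 z b) (hirr : Irred ρ) (hρ : Function.Injective ρ)
    (h2 : (2 : ZMod q) ≠ 0) [Fact q.Prime]
    {g₀ : G} (hg₀ : g₀ * b = b * z * g₀) (D : Subgroup G) {u : V} (hu : ρ b u = u) (hu0 : u ≠ 0)
    (hD : ∀ g : G, g * b = b * g → ∀ d ∈ D, ρ d (ρ g u) = ρ g u) {v : V} (hv : ρ b v = v) :
    ∀ d ∈ D, ρ d v = v := by
  let U : Submodule (ZMod q) V :=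
    { carrier := {v | ρ b v = v ∧ ∀ g : G, g * b = b * g → ∀ d ∈ D, ρ d (ρ g v) = ρ g v}
      add_mem' := by
        rintro x y ⟨hx, hx'⟩ ⟨hy, hy'⟩
        refine ⟨by rw [map_add, hx, hy], fun g hg d hd => ?_⟩
        rw [map_add, map_add, hx' g hg d hd, hy' g hg d hd]
      zero_mem' := ⟨by rw [map_zero], fun g _ d _ => by rw [map_zero, map_zero]⟩
      smul_mem' := by
        rintro r x ⟨hx, hx'⟩
        refine ⟨by rw [map_smul, hx], fun g hg d hd => ?_⟩
        rw [map_smul, map_smul, hx' g hg d hd] }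
  have hmem : ∀ v, v ∈ U ↔ ρ b v = v ∧ ∀ g : G, g * b = b * g → ∀ d ∈ D, ρ d (ρ g v) = ρ g v :=
    fun v => Iff.rfl
  have hU0 : U ≠ ⊥ := by
    intro h1
    apply hu0
    have : u ∈ U := ⟨hu, hD⟩
    rw [h1] at this
    exact (Submodule.mem_bot _).1 this
  have h3 := h.irred_block hirr hρ h2 hg₀ U (fun u hu => hu.1) (by
    intro g hg u hu
    rw [hmem] at hu ⊢
    refine ⟨by rw [Conf.comm_pres g hg, hu.1], fun k hk d hd => ?_⟩
    rw [← LinearEquiv.mul_apply (ρ k), ← map_mul]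
    refine hu.2 (k * g) ?_ d hd
    rw [mul_assoc, hg, ← mul_assoc, hk, mul_assoc]) hU0 v hv
  intro d hd
  have := h3.2 1 (by simp) d hd
  simpa using this

/-- Either the group is semiregular or the centraliser of `b` is transitive on each block. -/
theorem Conf.trans_or_semireg (h : Conf 2 z b) (hirr : Irred ρ) (hρ : Function.Injective ρ)
    (h2 : (2 : ZMod q) ≠ 0) [Fact q.Prime] [Finite G] {g₀ : G} (hg₀ : g₀ * b = b * z * g₀)
    (hc : ∀ v w : V, v ≠ 0 → w ≠ 0 → Nat.card (stab ρ v) = Nat.card (stab ρ w))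
    {u u' : V} (hu : ρ b u = u) (hu' : ρ b u' = u') (hu0 : u ≠ 0) (hu0' : u' ≠ 0)
    (huu : ∀ g : G, ρ g u ≠ u') :
    ∀ w : V, w ≠ 0 → ∀ g : G, ρ g w = w → g = 1 := by
  set w := ρ g₀ u' with hw
  have hwb : ρ b w = - w := by rw [hw, h.swap_pres hirr hρ g₀ hg₀, hu']
  have hw0 : w ≠ 0 := fun h1 => hu0' ((ρ g₀).map_eq_zero_iff.1 h1)
  have huw : ∀ g : G, ρ g u ≠ w := by
    intro g hg
    apply huu (g₀⁻¹ * g)
    rw [map_mul, LinearEquiv.mul_apply, hg, hw, inv_apply_self]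
  have hstab : stab ρ u = stab ρ w := h.stab_two hirr hρ h2 hc hu hwb hu0 hw0 huw
  have h1 : ∀ g : G, g * b = b * g → stab ρ (ρ g u) = stab ρ w := by
    intro g hg
    apply h.stab_two hirr hρ h2 hc (by rw [Conf.comm_pres g hg, hu]) hwb
      (fun h1 => hu0 ((ρ g).map_eq_zero_iff.1 h1)) hw0
    intro k hk
    apply huw (k * g)
    rw [map_mul, LinearEquiv.mul_apply, hk]
  have h3 : ∀ g : G, g * b = b * g → stab ρ u = stab ρ (ρ g w) := by
    intro g hg
    apply h.stab_two hirr hρ h2 hc hu (by rw [Conf.comm_pres g hg, hwb, map_neg]) hu0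
      (fun h1 => hw0 ((ρ g).map_eq_zero_iff.1 h1))
    intro k hk
    apply huw (g⁻¹ * k)
    rw [map_mul, LinearEquiv.mul_apply, hk, inv_apply_self]
  have hfix1 : ∀ v : V, ρ b v = v → ∀ d ∈ stab ρ u, ρ d v = v := by
    intro v hv
    apply h.fix_block hirr hρ h2 hg₀ (stab ρ u) hu hu0 _ hv
    intro g hg d hd
    have : d ∈ stab ρ (ρ g u) := by rw [h1 g hg, ← hstab]; exact hd
    exact this
  have hfix2 : ∀ v : V, ρ b v = -v → ∀ d ∈ stab ρ u, ρ d v = v := by
    intro v hv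
    have hgb : ∀ g : G, g * (b * z) = b * z * g ↔ g * b = b * g := by
      intro g
      rw [← mul_assoc, mul_assoc b z g, ← h.zc g, ← mul_assoc]
      exact mul_left_inj z
    refine h.swap_self.fix_block hirr hρ h2 (g₀ := g₀) ?_ (stab ρ u) (u := w) ?_ hw0 ?_ ?_
    · have h4 := hg₀
      calc g₀ * (b * z) = g₀ * b * z := by group
        _ = b * z * (g₀ * z) := by rw [hg₀]; group
        _ = b * z * z * g₀ := by rw [h.zc g₀]; group
    · rw [h.bz_neg hirr hρ, hwb, neg_neg]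
    · intro g hg d hd
      have : d ∈ stab ρ (ρ g w) := by rw [← h3 g ((hgb g).1 hg)]; exact hd
      exact this
    · rw [h.bz_neg hirr hρ, hv, neg_neg]
  apply semireg_of_one ρ hc hu0
  rw [eq_bot_iff]
  intro d hd
  rw [Subgroup.mem_bot]
  apply hρ
  rw [map_one]
  ext v
  show ρ d v = v
  have e1 : ρ b (v + ρ b v) = v + ρ b v := by rw [map_add, h.b_invol, add_comm]
  have e2 : ρ b (v - ρ b v) = -(v - ρ b v) := by rw [map_sub, h.b_invol]; abel
  have e3 := hfix1 _ e1 d hd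
  have e4 := hfix2 _ e2 d hd
  have e5 : (2 : ZMod q) • ρ d v = (2 : ZMod q) • v := by
    rw [← map_smul]
    have : (2 : ZMod q) • v = (v + ρ b v) + (v - ρ b v) := by rw [two_smul]; abel
    rw [this, map_add, e3, e4]
  exact smul_right_injective V h2 e5

end Cfsg.Agent.H351.HT
end

-- part: H351/HalfTransTwo
section
set_option autoImplicit false
set_option linter.style.haveILetI false

/-!
# Half-transitive linear `2`-groups with two blocks, transitive on each block
-/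

namespace Cfsg.Agent.H351.HT

variable {q : ℕ} {V : Type*} [AddCommGroup V] [Module (ZMod q) V]
  {G : Type*} [Group G] {ρ : G →* (V ≃ₗ[ZMod q] V)} {z b : G}

/-- fixed space of `b` -/
def blk (ρ : G →* (V ≃ₗ[ZMod q] V)) (b : G) : Submodule (ZMod q) V where
  carrier := {v | ρ b v = v}
  add_mem' := by
    intro x y hx hy
    show ρ b (x + y) = x + y
    rw [map_add, show ρ b x = x from hx, show ρ b y = y from hy]
  zero_mem' := by show ρ b 0 = 0; rw [map_zero]
  smul_mem' := by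
    intro r x hx
    show ρ b (r • x) = r • x
    rw [map_smul, show ρ b x = x from hx]

theorem mem_blk {v : V} : v ∈ blk ρ b ↔ ρ b v = v := Iff.rfl

theorem Conf.exists_two [Nontrivial V] (h : Conf 2 z b) (hirr : Irred ρ) (hρ : Function.Injective ρ)
    (h2 : (2 : ZMod q) ≠ 0) [Fact q.Prime] :
    ∃ g₀ : G, g₀ * b = b * z * g₀ ∧ ∃ u : V, u ≠ 0 ∧ ρ b u = u := by
  have : Fact (Nat.Prime 2) := ⟨Nat.prime_two⟩
  obtain ⟨g₀, c, hc, hg⟩ := h.exists_move hirr hρ (by exact_mod_cast h2)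
  have hg₀ : g₀ * b = b * z * g₀ := by
    rcases Int.even_or_odd' c with ⟨k, rfl | rfl⟩
    · exact absurd (by simp) hc
    · have h1 : z ^ (2 * k) = 1 := h.zpow_eq_one (by simp)
      rw [zpow_add, h1, one_mul, zpow_one] at hg
      exact mul_inv_eq_iff_eq_mul.1 hg
  refine ⟨g₀, hg₀, ?_⟩
  obtain ⟨j, v, hv0, hv⟩ := h.exists_fx (ρ := ρ) hirr hρ (by exact_mod_cast h2)
  unfold Fx at hv
  rcases Int.even_or_odd' j with ⟨k, rfl | rfl⟩
  · have h1 : z ^ (2 * k) = 1 := h.zpow_eq_one (by simp)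
    rw [h1, mul_one] at hv
    exact ⟨v, hv0, hv⟩
  · have h1 : z ^ (2 * k) = 1 := h.zpow_eq_one (by simp)
    rw [zpow_add, h1, one_mul, zpow_one, h.bz_neg hirr hρ] at hv
    refine ⟨ρ g₀ v, fun h3 => hv0 ((ρ g₀).map_eq_zero_iff.1 h3), ?_⟩
    rw [h.swap_pres hirr hρ g₀ hg₀, ← map_neg, hv]

theorem Conf.card_eq (h : Conf 2 z b) (hirr : Irred ρ) (hρ : Function.Injective ρ)
    (h2 : (2 : ZMod q) ≠ 0) [Fact q.Prime] [Finite V] {g₀ : G} (hg₀ : g₀ * b = b * z * g₀) :
    Nat.card V = Nat.card (blk ρ b) ^ 2 := by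
  let f : blk ρ b × blk ρ b → V := fun x => x.1 + ρ g₀ x.2
  have hsw : ∀ v : V, ρ b v = v → ρ b (ρ g₀ v) = - ρ g₀ v := by
    intro v hv
    rw [h.swap_pres hirr hρ g₀ hg₀, hv]
  have hf : Function.Bijective f := by
    constructor
    · rintro ⟨⟨x, hx⟩, ⟨y, hy⟩⟩ ⟨⟨x', hx'⟩, ⟨y', hy'⟩⟩ hxy
      change x + ρ g₀ y = x' + ρ g₀ y' at hxy
      rw [mem_blk] at hx hy hx' hy'
      have h3 := congrArg (ρ b) hxy
      rw [map_add, map_add, hx, hx', hsw y hy, hsw y' hy'] at h3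
      have h4 : (2 : ZMod q) • x = (2 : ZMod q) • x' := by
        rw [two_smul, two_smul]
        have e1 : x + x = (x + ρ g₀ y) + (x + -ρ g₀ y) := by abel
        rw [e1, hxy, h3]; abel
      have h5 : x = x' := smul_right_injective V h2 h4
      subst h5
      have h6 : y = y' := (ρ g₀).injective (add_left_cancel hxy)
      subst h6
      rfl
    · intro v
      let t : ZMod q := 2⁻¹
      have ht : t + t = 1 := by
        have : t + t = 2 * t := by ring
        rw [this]; exact mul_inv_cancel₀ h2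
      refine ⟨⟨⟨t • (v + ρ b v), ?_⟩, ⟨t • ρ g₀⁻¹ (v - ρ b v), ?_⟩⟩, ?_⟩
      · rw [mem_blk, map_smul, map_add, h.b_invol, add_comm]
      · rw [mem_blk, map_smul]
        congr 1
        have h5 : ρ b (v - ρ b v) = - (v - ρ b v) := by rw [map_sub, h.b_invol]; abel
        have h6 := h.swap_pres hirr hρ g₀ hg₀ (ρ g₀⁻¹ (v - ρ b v))
        rw [self_apply_inv, h5] at h6
        have h7 : ρ g₀ (ρ b (ρ g₀⁻¹ (v - ρ b v))) = v - ρ b v := by
          rw [← neg_inj, ← h6]
        rw [← inv_apply_self ρ g₀ (ρ b (ρ g₀⁻¹ (v - ρ b v))), h7]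
      · show t • (v + ρ b v) + ρ g₀ (t • ρ g₀⁻¹ (v - ρ b v)) = v
        rw [map_smul, self_apply_inv, ← smul_add]
        have : v + ρ b v + (v - ρ b v) = v + v := by abel
        rw [this, smul_add, ← add_smul, ht, one_smul]
  rw [← Nat.card_congr (Equiv.ofBijective f hf), Nat.card_prod, pow_two]

theorem Conf.rank (h : Conf 2 z b) (hirr : Irred ρ) (hρ : Function.Injective ρ) (hG : IsPGroup 2 G)
    (h2 : (2 : ZMod q) ≠ 0) [hq : Fact q.Prime] [Finite V] [Finite G]
    {u : V} (hu0 : u ≠ 0) (hu : ρ b u = u)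
    (htr : ∀ u' : V, ρ b u' = u' → u' ≠ 0 → ∃ g : G, ρ g u = u') :
    ∃ k : ℕ, (Nat.card (blk ρ b) = q ∧ q = 2 ^ k + 1) ∨ (Nat.card (blk ρ b) = 9 ∧ q = 3) := by
  have hq1 : 1 < q := hq.out.one_lt
  have hqodd : Odd q := by
    rcases hq.out.eq_two_or_odd' with h3 | h3
    · exfalso; apply h2; subst h3; rfl
    · exact h3
  let N : Subgroup G := Subgroup.centralizer {b}
  have hNmem : ∀ g, g ∈ N ↔ g * b = b * g := by
    intro g
    rw [Subgroup.mem_centralizer_singleton_iff]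
  have hN : ∀ g : G, ∀ u' : V, ρ b u' = u' → u' ≠ 0 → ρ g u = u' → g * b = b * g := by
    intro g u' hu' hu0' hg
    rcases h.conj_cases g with h3 | h3
    · exact h3
    · exfalso
      have h4 := h.swap_pres hirr hρ g h3 u
      rw [hu, hg, hu'] at h4
      exact hu0' (eq_zero_of_eq_neg h2 h4)
  have h3 := card_orb_mul (ρ.comp N.subtype) u
  have h4 : {u' : V | ∃ g : N, (ρ.comp N.subtype) g u = u'} = {v | v ∈ blk ρ b ∧ v ≠ 0} := by
    ext v
    constructor
    · rintro ⟨⟨g, hg⟩, rfl⟩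
      refine ⟨?_, fun h5 => hu0 ((ρ g).map_eq_zero_iff.1 h5)⟩
      show ρ b (ρ g u) = ρ g u
      rw [Conf.comm_pres g ((hNmem g).1 hg), hu]
    · rintro ⟨hv, hv0⟩
      obtain ⟨g, hg⟩ := htr v hv hv0
      exact ⟨⟨g, (hNmem g).2 (hN g v hv hv0 hg)⟩, hg⟩
  have h5 : Nat.card {v | v ∈ blk ρ b ∧ v ≠ 0} + 1 = Nat.card (blk ρ b) := by
    have : Nat.card {v | v ∈ blk ρ b ∧ v ≠ 0} = ((blk ρ b : Set V) \ {0}).ncard := rfl
    rw [this, Set.ncard_sdiff_singleton_add_one (show (0 : V) ∈ (blk ρ b : Set V) from (blk ρ b).zero_mem)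
      (Set.toFinite _)]
    rfl
  rw [h4] at h3
  obtain ⟨k, hk⟩ := IsPGroup.iff_card.1 (hG.to_subgroup N)
  rw [hk] at h3
  obtain ⟨j, -, hj⟩ := (Nat.dvd_prime_pow Nat.prime_two).1 (Dvd.intro _ h3)
  have h6 : Nat.card (blk ρ b) = q ^ Module.finrank (ZMod q) (blk ρ b) := by
    rw [Module.natCard_eq_pow_finrank (K := ZMod q), Nat.card_zmod]
  have hr : Module.finrank (ZMod q) (blk ρ b) ≠ 0 := by
    intro h7
    rw [h7, pow_zero] at h6
    rw [h6] at h5
    rw [hj] at h5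
    have : 0 < 2 ^ j := by positivity
    omega
  have h7 : q ^ Module.finrank (ZMod q) (blk ρ b) = 2 ^ j + 1 := by rw [← h6, ← h5, hj]
  rcases NT.pow_eq_two_pow_add_one hqodd hq1 hr h7 with h8 | ⟨h8, h9⟩
  · rw [h8, pow_one] at h6 h7
    exact ⟨j, Or.inl ⟨h6, h7⟩⟩
  · rw [h9] at h6
    exact ⟨j, Or.inr ⟨by rw [h6, h8]; norm_num, h8⟩⟩

/-- The monomial case: `|V| = q ^ 2`. -/
theorem Conf.monomial (h : Conf 2 z b) (hirr : Irred ρ) (hρ : Function.Injective ρ)
    (h2 : (2 : ZMod q) ≠ 0) [hq : Fact q.Prime] [Finite V] [Finite G] [Nontrivial V]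
    {g₀ : G} (hg₀ : g₀ * b = b * z * g₀)
    (hc : ∀ v w : V, v ≠ 0 → w ≠ 0 → Nat.card (stab ρ v) = Nat.card (stab ρ w))
    (hcard : Nat.card (blk ρ b) = q)
    {e₁ : V} (he0 : e₁ ≠ 0) (he : ρ b e₁ = e₁) :
    (∀ w : V, w ≠ 0 → ∀ g : G, ρ g w = w → g = 1) ∨
      ∃ e : V ≃ₗ[ZMod q] (Fin 2 → ZMod q), ∀ f : (Fin 2 → ZMod q) ≃ₗ[ZMod q] (Fin 2 → ZMod q),
        (∃ g : G, f = e.symm.trans ((ρ g).trans e)) ↔
        ∃ a s : ZMod q, a ≠ 0 ∧ (s = 1 ∨ s = -1) ∧
          ((∀ v, f v = ![a * v 0, s * a⁻¹ * v 1]) ∨ (∀ v, f v = ![s * a⁻¹ * v 1, a * v 0])) := by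
  set e₂ := ρ g₀ e₁ with he₂
  have he20 : e₂ ≠ 0 := fun h3 => he0 ((ρ g₀).map_eq_zero_iff.1 h3)
  have heb : ρ b e₂ = - e₂ := by rw [he₂, h.swap_pres hirr hρ g₀ hg₀, he]
  have hspan : ∀ v : V, ρ b v = v → ∃ x : ZMod q, v = x • e₁ := by
    intro v hv
    let f : ZMod q → blk ρ b := fun x => ⟨x • e₁, (blk ρ b).smul_mem x he⟩
    have hf : Function.Injective f := by
      intro x y hxy
      have : x • e₁ = y • e₁ := congrArg Subtype.val hxy
      exact smul_left_injective _ he0 this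
    have hf' : Function.Bijective f := by
      rw [Nat.bijective_iff_injective_and_card]
      exact ⟨hf, by rw [hcard, Nat.card_zmod]⟩
    obtain ⟨x, hx⟩ := hf'.2 ⟨v, hv⟩
    exact ⟨x, (congrArg Subtype.val hx).symm⟩
  have hspan' : ∀ v : V, ρ b v = -v → ∃ x : ZMod q, v = x • e₂ := by
    intro v hv
    have h3 : ρ b (ρ g₀⁻¹ v) = ρ g₀⁻¹ v := by
      have h6 := h.swap_pres hirr hρ g₀ hg₀ (ρ g₀⁻¹ v)
      rw [self_apply_inv, hv] at h6
      rw [← inv_apply_self ρ g₀ (ρ b (ρ g₀⁻¹ v)), ← neg_inj.1 h6]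
    obtain ⟨x, hx⟩ := hspan _ h3
    refine ⟨x, ?_⟩
    rw [he₂, ← map_smul, ← hx, self_apply_inv]
  -- equality from values on the basis
  have hind : ∀ x y x' y' : ZMod q, x • e₁ + y • e₂ = x' • e₁ + y' • e₂ → x = x' ∧ y = y' := by
    intro x y x' y' hxy
    have h3 := congrArg (ρ b) hxy
    rw [map_add, map_add, map_smul, map_smul, map_smul, map_smul, he, heb] at h3
    have h4 : (2 : ZMod q) • (x • e₁) = (2 : ZMod q) • (x' • e₁) := by
      rw [two_smul, two_smul]
      have e1 : x • e₁ + x • e₁ = (x • e₁ + y • e₂) + (x • e₁ + y • -e₂) := by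
        rw [smul_neg]; abel
      rw [e1, hxy, h3, smul_neg]; abel
    have h5 : x • e₁ = x' • e₁ := smul_right_injective V h2 h4
    rw [h5] at hxy
    exact ⟨smul_left_injective _ he0 h5, smul_left_injective _ he20 (add_left_cancel hxy)⟩
  let L : (Fin 2 → ZMod q) →ₗ[ZMod q] V :=
    { toFun := fun x => x 0 • e₁ + x 1 • e₂
      map_add' := by intro x y; simp only [Pi.add_apply, add_smul]; abel
      map_smul' := by
        intro r x
        simp only [Pi.smul_apply, smul_eq_mul, mul_smul, smul_add, RingHom.id_apply] }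
  have hL : ∀ x, L x = x 0 • e₁ + x 1 • e₂ := fun x => rfl
  have hLbij : Function.Bijective L := by
    rw [Nat.bijective_iff_injective_and_card]
    constructor
    · intro x y hxy
      rw [hL, hL] at hxy
      obtain ⟨h3, h4⟩ := hind _ _ _ _ hxy
      ext i
      fin_cases i
      · exact h3
      · exact h4
    · rw [h.card_eq hirr hρ h2 hg₀, hcard]
      simp
  have hsplit : ∀ v : V, ∃ x y : ZMod q, v = x • e₁ + y • e₂ := by
    intro v
    obtain ⟨x, hx⟩ := hLbij.2 v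
    exact ⟨x 0, x 1, hx.symm⟩
  have hext : ∀ g g' : G, ρ g e₁ = ρ g' e₁ → ρ g e₂ = ρ g' e₂ → g = g' := by
    intro g g' h3 h4
    apply hρ
    ext v
    obtain ⟨x, y, rfl⟩ := hsplit v
    rw [map_add, map_add, map_smul, map_smul, map_smul, map_smul, h3, h4]
  have hcomm1 : ∀ g : G, g * b = b * g →
      ∃ x y : ZMod q, x ≠ 0 ∧ y ≠ 0 ∧ ρ g e₁ = x • e₁ ∧ ρ g e₂ = y • e₂ := by
    intro g hg
    obtain ⟨x, hx⟩ := hspan (ρ g e₁) (by rw [Conf.comm_pres g hg, he])
    obtain ⟨y, hy⟩ := hspan' (ρ g e₂) (by rw [Conf.comm_pres g hg, heb, map_neg])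
    refine ⟨x, y, ?_, ?_, hx, hy⟩
    · rintro rfl
      rw [zero_smul] at hx
      exact he0 ((ρ g).map_eq_zero_iff.1 hx)
    · rintro rfl
      rw [zero_smul] at hy
      exact he20 ((ρ g).map_eq_zero_iff.1 hy)
  have hcomm2 : ∀ g : G, g * b = b * z * g →
      ∃ x y : ZMod q, x ≠ 0 ∧ y ≠ 0 ∧ ρ g e₁ = x • e₂ ∧ ρ g e₂ = y • e₁ := by
    intro g hg
    obtain ⟨x, hx⟩ := hspan' (ρ g e₁) (by rw [h.swap_pres hirr hρ g hg, he])
    obtain ⟨y, hy⟩ := hspan (ρ g e₂) (by rw [h.swap_pres hirr hρ g hg, heb, map_neg, neg_neg])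
    refine ⟨x, y, ?_, ?_, hx, hy⟩
    · rintro rfl
      rw [zero_smul] at hx
      exact he0 ((ρ g).map_eq_zero_iff.1 hx)
    · rintro rfl
      rw [zero_smul] at hy
      exact he20 ((ρ g).map_eq_zero_iff.1 hy)
  by_cases hss : ∀ w : V, w ≠ 0 → ∀ g : G, ρ g w = w → g = 1
  · exact Or.inl hss
  right
  have hnt : ∀ w : V, w ≠ 0 → stab ρ w ≠ ⊥ := by
    intro w hw h3
    exact hss (semireg_of_one ρ hc hw h3)
  -- the swapping elements
  have hsw : ∀ x : ZMod q, x ≠ 0 → ∃ g : G, ρ g e₁ = x • e₂ ∧ ρ g e₂ = x⁻¹ • e₁ := by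
    intro x hx
    have hw : e₁ + x • e₂ ≠ 0 := by
      intro h3
      have := hind 1 x 0 0 (by rw [one_smul, h3]; simp)
      exact one_ne_zero this.1
    obtain ⟨⟨g, hg⟩, hg1⟩ := Subgroup.ne_bot_iff_exists_ne_one.1 (hnt _ hw)
    have hgne : g ≠ 1 := fun h3 => hg1 (Subtype.ext h3)
    rw [mem_stab, map_add, map_smul] at hg
    rcases h.conj_cases g with h3 | h3
    · exfalso
      obtain ⟨s, t, -, -, h4, h5⟩ := hcomm1 g h3
      rw [h4, h5, smul_smul] at hg
      have h6 := hind s (x * t) 1 x (by rw [hg, one_smul])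
      apply hgne
      apply hext
      · rw [h4, h6.1, map_one, one_smul]; rfl
      · have h7 : t = 1 := by
          have := h6.2
          field_simp at this
          exact this
        rw [h5, h7, map_one, one_smul]; rfl
    · obtain ⟨s, t, -, -, h4, h5⟩ := hcomm2 g h3
      rw [h4, h5, smul_smul, add_comm] at hg
      have h6 := hind (x * t) s 1 x (by rw [hg, one_smul])
      refine ⟨g, by rw [h4, h6.2], ?_⟩
      rw [h5]
      congr 1
      exact eq_inv_of_mul_eq_one_right h6.1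
  -- all stabilisers have order two
  have hcard2 : ∀ w : V, w ≠ 0 → Nat.card (stab ρ w) = 2 := by
    have hw : e₁ + e₂ ≠ 0 := by
      intro h3
      have := hind 1 1 0 0 (by rw [one_smul, one_smul, h3]; simp)
      exact one_ne_zero this.1
    have huniq : ∀ g g' : G, g ∈ stab ρ (e₁ + e₂) → g' ∈ stab ρ (e₁ + e₂) → g ≠ 1 → g' ≠ 1 → g = g' := by
      have hval : ∀ g : G, g ∈ stab ρ (e₁ + e₂) → g ≠ 1 → ρ g e₁ = e₂ ∧ ρ g e₂ = e₁ := by
        intro g hg hgne
        rw [mem_stab, map_add] at hg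
        rcases h.conj_cases g with h3 | h3
        · exfalso
          obtain ⟨s, t, -, -, h4, h5⟩ := hcomm1 g h3
          rw [h4, h5] at hg
          have h6 := hind s t 1 1 (by rw [hg, one_smul, one_smul])
          apply hgne
          apply hext
          · rw [h4, h6.1, map_one, one_smul]; rfl
          · rw [h5, h6.2, map_one, one_smul]; rfl
        · obtain ⟨s, t, -, -, h4, h5⟩ := hcomm2 g h3
          rw [h4, h5, add_comm] at hg
          have h6 := hind t s 1 1 (by rw [hg, one_smul, one_smul])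
          rw [h4, h5, h6.1, h6.2, one_smul, one_smul]
          exact ⟨rfl, rfl⟩
      intro g g' hg hg' h3 h4
      have h5 := hval g hg h3
      have h6 := hval g' hg' h4
      exact hext _ _ (by rw [h5.1, h6.1]) (by rw [h5.2, h6.2])
    have h3 : Nat.card (stab ρ (e₁ + e₂)) = 2 := by
      obtain ⟨g, hg1⟩ := Subgroup.ne_bot_iff_exists_ne_one.1 (hnt _ hw)
      rw [Nat.card_eq_two_iff]
      refine ⟨1, g, hg1.symm, ?_⟩
      rw [Set.eq_univ_iff_forall]
      intro g'
      by_cases h4 : g' = 1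
      · left; exact h4
      · right
        exact Subtype.ext (huniq _ _ g'.2 g.2 (fun h5 => h4 (Subtype.ext h5)) (fun h5 => hg1 (Subtype.ext h5)))
    intro w hw0
    rw [hc w _ hw0 hw, h3]
  have hsq : ∀ g : G, ρ g e₁ = e₁ → ∃ s : ZMod q, (s = 1 ∨ s = -1) ∧ ρ g e₂ = s • e₂ := by
    intro g hg
    have hgb : g * b = b * g := by
      rcases h.conj_cases g with h3 | h3
      · exact h3
      · exfalso
        have h4 := h.swap_pres hirr hρ g h3 e₁
        rw [he, hg, he] at h4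
        exact he0 (eq_zero_of_eq_neg h2 h4)
    obtain ⟨s, t, -, -, h4, h5⟩ := hcomm1 g hgb
    refine ⟨t, ?_, h5⟩
    have h6 : (⟨g, hg⟩ : stab ρ e₁) ^ 2 = 1 := by
      rw [← hcard2 e₁ he0]; exact pow_card_eq_one'
    have h7 : g ^ 2 = 1 := congrArg Subtype.val h6
    have h8 : ρ (g ^ 2) e₂ = (t * t) • e₂ := by
      rw [pow_two, map_mul, LinearEquiv.mul_apply, h5, map_smul, h5, smul_smul]
    rw [h7, map_one] at h8
    have h9 : t * t = 1 := by
      have : (1 : ZMod q) • e₂ = (t * t) • e₂ := by rw [one_smul, ← h8]; rfl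
      exact (smul_left_injective _ he20 this).symm
    exact mul_self_eq_one_iff.1 h9
  have hneg : ∃ g : G, ρ g e₁ = e₁ ∧ ρ g e₂ = -e₂ := by
    obtain ⟨⟨g, hg⟩, hg1⟩ := Subgroup.ne_bot_iff_exists_ne_one.1 (hnt _ he0)
    have hgne : g ≠ 1 := fun h3 => hg1 (Subtype.ext h3)
    obtain ⟨s, hs, h3⟩ := hsq g hg
    rcases hs with rfl | rfl
    · exfalso
      apply hgne
      apply hext
      · rw [map_one]; exact hg
      · rw [h3, map_one, one_smul]; rfl
    · exact ⟨g, hg, by rw [h3, neg_smul, one_smul]⟩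
  have hA1 : ∀ a s : ZMod q, a ≠ 0 → (s = 1 ∨ s = -1) →
      ∃ g : G, ρ g e₁ = a • e₂ ∧ ρ g e₂ = (s * a⁻¹) • e₁ := by
    intro a s ha hs
    obtain ⟨g, h3, h4⟩ := hsw a ha
    obtain ⟨d, h5, h6⟩ := hneg
    rcases hs with rfl | rfl
    · exact ⟨g, h3, by rw [h4, one_mul]⟩
    · refine ⟨g * d, ?_, ?_⟩
      · rw [map_mul, LinearEquiv.mul_apply, h5, h3]
      · rw [map_mul, LinearEquiv.mul_apply, h6, map_neg, h4, neg_mul, one_mul, neg_smul]
  have hA2 : ∀ a s : ZMod q, a ≠ 0 → (s = 1 ∨ s = -1) →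
      ∃ g : G, ρ g e₁ = a • e₁ ∧ ρ g e₂ = (s * a⁻¹) • e₂ := by
    intro a s ha hs
    obtain ⟨g, h3, h4⟩ := hA1 a⁻¹ s (inv_ne_zero ha) hs
    obtain ⟨k, h5, h6⟩ := hsw 1 one_ne_zero
    rw [one_smul] at h5
    rw [inv_one, one_smul] at h6
    rw [inv_inv] at h4
    rcases hs with rfl | rfl
    · refine ⟨g * k, ?_, ?_⟩
      · rw [map_mul, LinearEquiv.mul_apply, h5, h4, one_mul]
      · rw [map_mul, LinearEquiv.mul_apply, h6, h3, one_mul]
    · -- use `d` of determinant `-1` first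
      obtain ⟨d, h7, h8⟩ := hneg
      obtain ⟨g', h3', h4'⟩ := hA1 a⁻¹ 1 (inv_ne_zero ha) (Or.inl rfl)
      rw [inv_inv] at h4'
      refine ⟨g' * k * d, ?_, ?_⟩
      · rw [map_mul, map_mul, LinearEquiv.mul_apply, LinearEquiv.mul_apply, h7, h5, h4', one_mul]
      · rw [map_mul, map_mul, LinearEquiv.mul_apply, LinearEquiv.mul_apply, h8, map_neg, h6, map_neg,
          h3', neg_mul, one_mul, neg_smul]
  have hB2 : ∀ g : G, g * b = b * g → ∃ a s : ZMod q, a ≠ 0 ∧ (s = 1 ∨ s = -1) ∧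
      ρ g e₁ = a • e₁ ∧ ρ g e₂ = (s * a⁻¹) • e₂ := by
    intro g hg
    obtain ⟨x, y, hx0, hy0, hx, hy⟩ := hcomm1 g hg
    obtain ⟨d, hd1, hd2⟩ := hA2 x⁻¹ 1 (inv_ne_zero hx0) (Or.inl rfl)
    rw [inv_inv, one_mul] at hd2
    have h3 : ρ (d * g) e₁ = e₁ := by
      rw [map_mul, LinearEquiv.mul_apply, hx, map_smul, hd1, smul_smul, mul_inv_cancel₀ hx0, one_smul]
    obtain ⟨s, hs, h4⟩ := hsq _ h3
    rw [map_mul, LinearEquiv.mul_apply, hy, map_smul, hd2, smul_smul] at h4
    have h5 : y * x = s := smul_left_injective _ he20 h4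
    refine ⟨x, s, hx0, hs, hx, ?_⟩
    rw [hy, ← h5, mul_inv_cancel_right₀ hx0]
  have hB1 : ∀ g : G, g * b = b * z * g → ∃ a s : ZMod q, a ≠ 0 ∧ (s = 1 ∨ s = -1) ∧
      ρ g e₁ = a • e₂ ∧ ρ g e₂ = (s * a⁻¹) • e₁ := by
    intro g hg
    obtain ⟨x, y, hx0, hy0, hx, hy⟩ := hcomm2 g hg
    obtain ⟨d, hd1, hd2⟩ := hsw x⁻¹ (inv_ne_zero hx0)
    rw [inv_inv] at hd2
    -- `d g` maps `e₁` to `x x e₁`, `e₂` to `y x⁻¹ e₂`
    have h3 : (d * g) * b = b * (d * g) ∨ (d * g) * b = b * z * (d * g) := h.conj_cases _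
    have e1 : ρ (d * g) e₁ = (x * x) • e₁ := by
      rw [map_mul, LinearEquiv.mul_apply, hx, map_smul, hd2, smul_smul]
    have e2 : ρ (d * g) e₂ = (y * x⁻¹) • e₂ := by
      rw [map_mul, LinearEquiv.mul_apply, hy, map_smul, hd1, smul_smul]
    have h4 : (d * g) * b = b * (d * g) := by
      rcases h3 with h3 | h3
      · exact h3
      · exfalso
        have h5 := h.swap_pres hirr hρ _ h3 e₁
        rw [he, e1, map_smul, he] at h5
        have h6 := eq_zero_of_eq_neg h2 h5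
        rcases smul_eq_zero.1 h6 with h7 | h7
        · exact hx0 (mul_self_eq_zero.1 h7)
        · exact he0 h7
    obtain ⟨a, s, ha0, hs, h5, h6⟩ := hB2 _ h4
    rw [e1] at h5
    rw [e2] at h6
    have h7 : x * x = a := smul_left_injective _ he0 h5
    have h8 : y * x⁻¹ = s * a⁻¹ := smul_left_injective _ he20 h6
    refine ⟨x, s, hx0, hs, hx, ?_⟩
    rw [hy]
    congr 1
    rw [← h7, mul_inv] at h8
    have : y = (y * x⁻¹) * x := by rw [inv_mul_cancel_right₀ hx0]
    rw [this, h8]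
    field_simp
  let e : (Fin 2 → ZMod q) ≃ₗ[ZMod q] V := LinearEquiv.ofBijective L hLbij
  have hee : ∀ x, e x = x 0 • e₁ + x 1 • e₂ := fun x => rfl
  have hes : ∀ x y : ZMod q, e.symm (x • e₁ + y • e₂) = ![x, y] := by
    intro x y
    rw [LinearEquiv.symm_apply_eq, hee]
    simp
  refine ⟨e.symm, ?_⟩
  intro f
  constructor
  · rintro ⟨g, rfl⟩
    have hval : ∀ v, (e.symm.symm.trans ((ρ g).trans e.symm)) v =
        e.symm (v 0 • ρ g e₁ + v 1 • ρ g e₂) := by
      intro v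
      simp only [LinearEquiv.trans_apply, LinearEquiv.symm_symm, hee, map_add, map_smul]
    rcases h.conj_cases g with hg | hg
    · obtain ⟨a, s, ha, hs, h3, h4⟩ := hB2 g hg
      refine ⟨a, s, ha, hs, Or.inl ?_⟩
      intro v
      rw [hval, h3, h4, smul_smul, smul_smul, hes]
      congr 1
      · ring
      · congr 1; ring
    · obtain ⟨a, s, ha, hs, h3, h4⟩ := hB1 g hg
      refine ⟨a, s, ha, hs, Or.inr ?_⟩
      intro v
      rw [hval, h3, h4, smul_smul, smul_smul, add_comm, hes]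
      congr 1
      · ring
      · congr 1; ring
  · rintro ⟨a, s, ha, hs, hf | hf⟩
    · obtain ⟨g, h3, h4⟩ := hA2 a s ha hs
      refine ⟨g, ?_⟩
      apply LinearEquiv.ext
      intro v
      have hval : (e.symm.symm.trans ((ρ g).trans e.symm)) v =
          e.symm (v 0 • ρ g e₁ + v 1 • ρ g e₂) := by
        simp only [LinearEquiv.trans_apply, LinearEquiv.symm_symm, hee, map_add, map_smul]
      rw [hval, hf, h3, h4, smul_smul, smul_smul, hes]
      congr 1
      · ring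
      · congr 1; ring
    · obtain ⟨g, h3, h4⟩ := hA1 a s ha hs
      refine ⟨g, ?_⟩
      apply LinearEquiv.ext
      intro v
      have hval : (e.symm.symm.trans ((ρ g).trans e.symm)) v =
          e.symm (v 0 • ρ g e₁ + v 1 • ρ g e₂) := by
        simp only [LinearEquiv.trans_apply, LinearEquiv.symm_symm, hee, map_add, map_smul]
      rw [hval, hf, h3, h4, smul_smul, smul_smul, add_comm, hes]
      congr 1
      · ring
      · congr 1; ring

end Cfsg.Agent.H351.HT
end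

-- part: H351/HalfTransCount
section
set_option autoImplicit false
set_option linter.style.haveILetI false

/-!
# Half-transitive dihedral and semidihedral groups: counting noncentral involutions
-/

namespace Cfsg.Agent.H351.HT

variable {q : ℕ} {V : Type*} [AddCommGroup V] [Module (ZMod q) V]
  {G : Type*} [Group G] {ρ : G →* (V ≃ₗ[ZMod q] V)} {z : G}

theorem card_eq_sq (h2 : (2 : ZMod q) ≠ 0) [Fact q.Prime] [Finite V] {b g₀ : G}
    (hb : ∀ v, ρ b (ρ b v) = v) (hsw : ∀ v, ρ b (ρ g₀ v) = - ρ g₀ (ρ b v)) :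
    Nat.card V = Nat.card (blk ρ b) ^ 2 := by
  let f : blk ρ b × blk ρ b → V := fun x => x.1 + ρ g₀ x.2
  have hf : Function.Bijective f := by
    constructor
    · rintro ⟨⟨x, hx⟩, ⟨y, hy⟩⟩ ⟨⟨x', hx'⟩, ⟨y', hy'⟩⟩ hxy
      change x + ρ g₀ y = x' + ρ g₀ y' at hxy
      rw [mem_blk] at hx hy hx' hy'
      have h3 := congrArg (ρ b) hxy
      rw [map_add, map_add, hx, hx', hsw y, hsw y', hy, hy'] at h3
      have h4 : (2 : ZMod q) • x = (2 : ZMod q) • x' := by
        rw [two_smul, two_smul]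
        have e1 : x + x = (x + ρ g₀ y) + (x + -ρ g₀ y) := by abel
        rw [e1, hxy, h3]; abel
      have h5 : x = x' := smul_right_injective V h2 h4
      subst h5
      have h6 : y = y' := (ρ g₀).injective (add_left_cancel hxy)
      subst h6
      rfl
    · intro v
      let t : ZMod q := 2⁻¹
      have ht : t + t = 1 := by
        have : t + t = 2 * t := by ring
        rw [this]; exact mul_inv_cancel₀ h2
      refine ⟨⟨⟨t • (v + ρ b v), ?_⟩, ⟨t • ρ g₀⁻¹ (v - ρ b v), ?_⟩⟩, ?_⟩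
      · rw [mem_blk, map_smul, map_add, hb, add_comm]
      · rw [mem_blk, map_smul]
        congr 1
        have h5 : ρ b (v - ρ b v) = - (v - ρ b v) := by rw [map_sub, hb]; abel
        have h6 := hsw (ρ g₀⁻¹ (v - ρ b v))
        rw [self_apply_inv, h5] at h6
        have h7 : ρ g₀ (ρ b (ρ g₀⁻¹ (v - ρ b v))) = v - ρ b v := by
          rw [← neg_inj, ← h6]
        rw [← inv_apply_self ρ g₀ (ρ b (ρ g₀⁻¹ (v - ρ b v))), h7]
      · show t • (v + ρ b v) + ρ g₀ (t • ρ g₀⁻¹ (v - ρ b v)) = v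
        rw [map_smul, self_apply_inv, ← smul_add]
        have : v + ρ b v + (v - ρ b v) = v + v := by abel
        rw [this, smul_add, ← add_smul, ht, one_smul]
  rw [← Nat.card_congr (Equiv.ofBijective f hf), Nat.card_prod, pow_two]

/-- Counting with a partition of the nonzero vectors into fixed spaces of involutions. -/
theorem count (h2 : (2 : ZMod q) ≠ 0) [hq : Fact q.Prime] [Finite V] [Nontrivial V]
    {ι : Type*} [Fintype ι] (t : ι → G) (hz : ∀ v, ρ z v = -v)
    (ht : ∀ i, t i * t i = 1) (hconj : ∀ i, ∃ g : G, g * t i * g⁻¹ = t i * z)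
    (hex : ∀ v : V, v ≠ 0 → ∃ i, ρ (t i) v = v)
    (huniq : ∀ v : V, v ≠ 0 → ∀ i j, ρ (t i) v = v → ρ (t j) v = v → i = j) {l : ℕ}
    (hcard : Fintype.card ι = 2 ^ l) :
    Nat.card V = q ^ 2 ∧ q + 1 = 2 ^ l := by
  classical
  have hsq : ∀ i, Nat.card V = Nat.card (blk ρ (t i)) ^ 2 := by
    intro i
    obtain ⟨g, hg⟩ := hconj i
    refine card_eq_sq h2 (g₀ := g) (fun v => ?_) (fun v => ?_)
    · rw [← LinearEquiv.mul_apply, ← map_mul, ht i, map_one]; rfl
    · have h3 : g * t i = t i * z * g := by rw [← hg]; group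
      have h4 : ρ (t i) (ρ z (ρ g v)) = ρ g (ρ (t i) v) := by
        rw [← LinearEquiv.mul_apply, ← LinearEquiv.mul_apply, ← LinearEquiv.mul_apply, ← map_mul,
          ← map_mul, ← map_mul, ← h3]
      rw [hz, map_neg] at h4
      rw [← h4, neg_neg]
  obtain ⟨v₀, hv₀⟩ := exists_ne (0 : V)
  obtain ⟨i₀, -⟩ := hex v₀ hv₀
  set Q := Nat.card (blk ρ (t i₀)) with hQ
  have hQi : ∀ i, Nat.card (blk ρ (t i)) = Q := by
    intro i
    have h3 := hsq i
    rw [hsq i₀] at h3
    exact (Nat.pow_left_injective (n := 2) (by norm_num) h3).symm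
  have hVcard : Nat.card V = Q ^ 2 := hsq i₀
  have hV1 : 1 < Nat.card V := Finite.one_lt_card
  have hQ1 : 1 < Q := by
    by_contra h3
    have h4 : Q ^ 2 ≤ 1 ^ 2 := Nat.pow_le_pow_left (by omega) 2
    omega
  let f : (Σ i : ι, {v : V // v ∈ blk ρ (t i) ∧ v ≠ 0}) → {v : V // v ≠ 0} := fun x => ⟨x.2.1, x.2.2.2⟩
  have hf : Function.Bijective f := by
    constructor
    · rintro ⟨i, ⟨v, hv, hv0⟩⟩ ⟨j, ⟨w, hw, hw0⟩⟩ h3
      have h4 : v = w := congrArg Subtype.val h3
      subst h4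
      have h5 : i = j := huniq v hv0 i j hv hw
      subst h5
      rfl
    · rintro ⟨v, hv⟩
      obtain ⟨i, hi⟩ := hex v hv
      exact ⟨⟨i, ⟨v, hi, hv⟩⟩, rfl⟩
  have hc1 := Nat.card_congr (Equiv.ofBijective f hf)
  rw [Nat.card_sigma] at hc1
  have hc2 : ∀ i, Nat.card {v : V // v ∈ blk ρ (t i) ∧ v ≠ 0} = Q - 1 := by
    intro i
    have h5 : Nat.card {v : V // v ∈ blk ρ (t i) ∧ v ≠ 0} + 1 = Nat.card (blk ρ (t i)) := by
      have : Nat.card {v : V // v ∈ blk ρ (t i) ∧ v ≠ 0} = ((blk ρ (t i) : Set V) \ {0}).ncard := rfl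
      rw [this, Set.ncard_sdiff_singleton_add_one
        (show (0 : V) ∈ (blk ρ (t i) : Set V) from (blk ρ (t i)).zero_mem) (Set.toFinite _)]
      rfl
    rw [hQi i] at h5
    omega
  have hc3 : Nat.card {v : V // v ≠ 0} = Q ^ 2 - 1 := by
    have h5 : Nat.card {v : V // v ≠ 0} + 1 = Nat.card V := by
      have h6 : Nat.card {v : V // v ≠ 0} = ((Set.univ : Set V) \ {0}).ncard := by
        rw [← Nat.card_coe_set_eq]
        exact Nat.card_congr (Equiv.subtypeEquivRight (by intro v; simp))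
      rw [h6, Set.ncard_sdiff_singleton_add_one (Set.mem_univ _) (Set.toFinite _), Set.ncard_univ]
    omega
  rw [Finset.sum_congr rfl fun i _ => hc2 i, Finset.sum_const, Finset.card_univ, hcard, hc3,
    smul_eq_mul] at hc1
  have hc4 : 2 ^ l = Q + 1 := by
    obtain ⟨m, hm⟩ := Nat.exists_eq_add_of_lt hQ1
    have h5 : Q - 1 = m + 1 := by omega
    have h6 : Q ^ 2 - 1 = (Q + 1) * (m + 1) := by
      have : Q = m + 2 := by omega
      rw [this]
      have h7 : (m + 2) ^ 2 = (m + 2 + 1) * (m + 1) + 1 := by ring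
      omega
    rw [h5, h6] at hc1
    exact Nat.eq_of_mul_eq_mul_right (by omega) hc1
  have hq1 : 1 < q := hq.out.one_lt
  have hqodd : Odd q := by
    rcases hq.out.eq_two_or_odd' with h3 | h3
    · exfalso; apply h2; subst h3; rfl
    · exact h3
  have h6 : Q = q ^ Module.finrank (ZMod q) (blk ρ (t i₀)) := by
    rw [hQ, Module.natCard_eq_pow_finrank (K := ZMod q), Nat.card_zmod]
  have hr : Module.finrank (ZMod q) (blk ρ (t i₀)) ≠ 0 := by
    intro h7
    rw [h7, pow_zero] at h6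
    omega
  have h7 := NT.pow_add_one_eq_two_pow hqodd hq1 hr (l := l) (by rw [← h6, hc4])
  rw [h7, pow_one] at h6
  rw [← h6]
  exact ⟨hVcard, hc4.symm⟩

/-- In a cyclic subgroup containing `z`, nontrivial elements are fixed-point-free. -/
theorem cyclic_fpf [Finite G] (h2 : (2 : ZMod q) ≠ 0) [Fact q.Prime] (hG : IsPGroup 2 G)
    (hz : ∀ v, ρ z v = -v) (hzo : orderOf z = 2) (C : Subgroup G) (hC : IsCyclic C) (hzC : z ∈ C)
    {g : G} (hg : g ∈ C) (hg1 : g ≠ 1) {v : V} (hv : ρ g v = v) : v = 0 := by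
  have : Fact (Nat.Prime 2) := ⟨Nat.prime_two⟩
  obtain ⟨k, hk⟩ := (IsPGroup.iff_orderOf.1 hG) g
  have hk0 : k ≠ 0 := by
    rintro rfl
    rw [pow_zero, orderOf_eq_one_iff] at hk
    exact hg1 hk
  have h3 : (⟨z, hzC⟩ : C) ∈ Subgroup.zpowers (⟨g, hg⟩ : C) := by
    apply mem_zpowers_of_dvd
    rw [Subgroup.orderOf_mk, Subgroup.orderOf_mk, hzo, hk]
    exact dvd_pow_self 2 hk0
  have h4 : g ∈ stab ρ v := hv
  obtain ⟨m, hm⟩ := Subgroup.mem_zpowers_iff.1 h3
  have h5 : z = g ^ m := by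
    have := congrArg Subtype.val hm
    simpa using this.symm
  have h6 : z ∈ stab ρ v := by rw [h5]; exact Subgroup.zpow_mem _ h4 m
  rw [mem_stab, hz] at h6
  exact eq_zero_of_eq_neg h2 h6.symm

theorem z_neg' (hirr : Irred ρ) (hρ : Function.Injective ρ) (hzc : ∀ g : G, g * z = z * g)
    (hzo : orderOf z = 2) (v : V) : ρ z v = - v := by
  have h1 : ρ z (v + ρ z v) = v + ρ z v := by
    have h2 : z * z = 1 := by rw [← pow_two, ← hzo, pow_orderOf_eq_one]
    rw [map_add, ← LinearEquiv.mul_apply, ← map_mul, h2, map_one, add_comm]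
    rfl
  have h3 := fix_central ρ hirr hρ hzc (by
    intro h4; rw [h4, orderOf_one] at hzo; omega) h1
  exact (neg_eq_of_add_eq_zero_right h3).symm

open DihedralGroup in
theorem dihedral_case (hirr : Irred ρ) (hρ : Function.Injective ρ)
    (h2 : (2 : ZMod q) ≠ 0) [hq : Fact q.Prime] [Finite V] [Nontrivial V] [Finite G] (hG : IsPGroup 2 G)
    (hc : ∀ v w : V, v ≠ 0 → w ≠ 0 → Nat.card (stab ρ v) = Nat.card (stab ρ w))
    {n : ℕ} (hn : 8 ≤ n) (e : G ≃* DihedralGroup n) :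
    Nat.card V = q ^ 2 ∧ ∃ m : ℕ, q + 1 = 2 ^ m ∧ n = 2 ^ m := by
  have : Fact (Nat.Prime 2) := ⟨Nat.prime_two⟩
  obtain ⟨k, hk⟩ := IsPGroup.iff_card.1 hG
  rw [Nat.card_congr e.toEquiv, DihedralGroup.nat_card] at hk
  obtain ⟨l, rfl⟩ : ∃ l, n = 2 ^ (l + 2) := by
    have h3 : n ∣ 2 ^ k := ⟨2, by rw [← hk]; ring⟩
    obtain ⟨j, -, hj⟩ := (Nat.dvd_prime_pow Nat.prime_two).1 h3
    have : 3 ≤ j := by
      by_contra h4
      have h5 : 2 ^ j ≤ 2 ^ 2 := Nat.pow_le_pow_right (by norm_num) (by omega)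
      omega
    exact ⟨j - 2, by rw [hj]; congr 1; omega⟩
  have hNZ : NeZero (2 ^ (l + 2)) := ⟨by positivity⟩
  have hhalf : (2 : ZMod (2 ^ (l + 2))) * 2 ^ (l + 1) = 0 := by
    have h3 := ZMod.natCast_self (2 ^ (l + 2))
    push_cast at h3
    rw [← h3]; ring
  have hhalf' : (2 : ZMod (2 ^ (l + 2))) ^ (l + 1) ≠ 0 := by
    intro h3
    have h4 : ((2 ^ (l + 1) : ℕ) : ZMod (2 ^ (l + 2))) = 0 := by push_cast; exact h3
    rw [ZMod.natCast_eq_zero_iff] at h4
    have h5 := Nat.le_of_dvd (by positivity) h4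
    have h6 : 2 ^ (l + 1) < 2 ^ (l + 2) := Nat.pow_lt_pow_right (by norm_num) (by omega)
    omega
  let z' : DihedralGroup (2 ^ (l + 2)) := r (2 ^ (l + 1))
  let z : G := e.symm z'
  have hzc' : ∀ g : DihedralGroup (2 ^ (l + 2)), g * z' = z' * g := by
    rintro (i | i)
    · simp only [z', r_mul_r]
      congr 1
      exact add_comm _ _
    · simp only [z', r_mul_sr, sr_mul_r]
      congr 1
      linear_combination hhalf
  have hzc : ∀ g : G, g * z = z * g := by
    intro g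
    apply e.injective
    rw [map_mul, map_mul, MulEquiv.apply_symm_apply]
    exact hzc' _
  have hz'1 : z' ≠ 1 := by
    intro h3
    rw [one_def] at h3
    exact hhalf' (r.inj h3)
  have hz'2 : z' * z' = 1 := by
    simp only [z', r_mul_r, one_def]
    congr 1
    linear_combination hhalf
  have hzo : orderOf z = 2 := by
    apply orderOf_eq_prime
    · rw [pow_two]
      apply e.injective
      rw [map_mul, MulEquiv.apply_symm_apply, hz'2, map_one]
    · intro h3
      apply hz'1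
      have := congrArg e h3
      rwa [MulEquiv.apply_symm_apply, map_one] at this
  have hz : ∀ v, ρ z v = -v := z_neg' hirr hρ hzc hzo
  let C : Subgroup G := Subgroup.zpowers (e.symm (r 1))
  have hCr : ∀ i : ZMod (2 ^ (l + 2)), e.symm (r i) ∈ C := by
    intro i
    refine Subgroup.mem_zpowers_iff.2 ⟨(i.val : ℤ), ?_⟩
    rw [zpow_natCast, ← map_pow, r_one_pow, ZMod.natCast_zmod_val]
  have hfpf : ∀ i : ZMod (2 ^ (l + 2)), i ≠ 0 → ∀ v : V, ρ (e.symm (r i)) v = v → v = 0 := by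
    intro i hi v hv
    refine cyclic_fpf h2 hG hz hzo C inferInstance (hCr _) (hCr i) ?_ hv
    intro h3
    apply hi
    have := congrArg e h3
    rw [MulEquiv.apply_symm_apply, map_one, one_def] at this
    exact r.inj this
  let t : ZMod (2 ^ (l + 2)) → G := fun i => e.symm (sr i)
  have htt : ∀ i, t i * t i = 1 := by
    intro i
    simp only [t]
    rw [← map_mul, sr_mul_self, map_one]
  have ht1 : ∀ i, t i ≠ 1 := by
    intro i h3
    have := congrArg e h3
    rw [MulEquiv.apply_symm_apply, map_one, one_def] at this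
    cases this
  have htz : ∀ i, t i ≠ z := by
    intro i h3
    have h4 : sr i = r (2 ^ (l + 1)) := e.symm.injective h3
    cases h4
  -- `t 0` fixes a vector
  have hfix : ∃ v : V, v ≠ 0 ∧ ρ (t 0) v = v := by
    by_contra hcon
    push Not at hcon
    have h3 : ∀ v : V, ρ (t 0) v = -v := by
      intro v
      have h4 : ρ (t 0) (v + ρ (t 0) v) = v + ρ (t 0) v := by
        rw [map_add, ← LinearEquiv.mul_apply, ← map_mul, htt, map_one, add_comm]; rfl
      by_cases h5 : v + ρ (t 0) v = 0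
      · exact (neg_eq_of_add_eq_zero_right h5).symm
      · exact absurd h4 (hcon _ h5)
    apply htz 0
    apply hρ
    ext v
    rw [h3, hz]
  have hst : ∀ v : V, v ≠ 0 → stab ρ v ≠ ⊥ := by
    intro v hv h3
    obtain ⟨w, hw, hw'⟩ := hfix
    exact ht1 0 (semireg_of_one ρ hc hv h3 w hw _ hw')
  have hres := count (z := z) h2 t hz htt (ρ := ρ) (l := l + 2) ?_ ?_ ?_ ?_
  · exact ⟨hres.1, l + 2, hres.2, rfl⟩
  · intro i
    refine ⟨e.symm (r (-2 ^ l)), ?_⟩
    simp only [t, z]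
    rw [← map_inv, ← map_mul, ← map_mul, ← map_mul]
    congr 1
    simp only [z', inv_r, r_mul_sr, sr_mul_r]
    congr 1
    ring
  · intro v hv
    obtain ⟨⟨g, hg⟩, hg1⟩ := Subgroup.ne_bot_iff_exists_ne_one.1 (hst v hv)
    have hgne : g ≠ 1 := fun h3 => hg1 (Subtype.ext h3)
    obtain ⟨g', rfl⟩ := e.symm.surjective g
    rcases g' with i | i
    · exfalso
      apply hv
      refine hfpf i ?_ v hg
      rintro rfl
      apply hgne
      rw [← one_def, map_one]
    · exact ⟨i, hg⟩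
  · intro v hv i j hi hj
    by_contra hij
    apply hv
    refine hfpf (j - i) (sub_ne_zero.2 (Ne.symm hij)) v ?_
    have : e.symm (r (j - i)) = t i * t j := by
      simp only [t]
      rw [← map_mul, sr_mul_sr]
    rw [this, map_mul, LinearEquiv.mul_apply, hj, hi]
  · exact ZMod.card _

open Cfsg.Agent.TwoFusion.QDBasic in
theorem sd_case (hirr : Irred ρ) (hρ : Function.Injective ρ)
    (h2 : (2 : ZMod q) ≠ 0) [hq : Fact q.Prime] [Finite V] [Nontrivial V] [Finite G] (hG : IsPGroup 2 G)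
    (hc : ∀ v w : V, v ≠ 0 → w ≠ 0 → Nat.card (stab ρ v) = Nat.card (stab ρ w))
    (hS : Cfsg.IsQuasiDihedral G) :
    Nat.card V = q ^ 2 ∧ ∃ m : ℕ, q + 1 = 2 ^ m ∧ Nat.card G = 2 ^ (m + 2) := by
  have : Fact (Nat.Prime 2) := ⟨Nat.prime_two⟩
  obtain ⟨n, u, y, h⟩ := exists_qdcoord hS
  have hNZ : NeZero (2 ^ n) := ⟨by positivity⟩
  set z : G := u (2 ^ (n - 1)) with hzdef
  have hhalf := two_mul_half n h.one_le
  have hhh := half_mul_half n h.two_le
  have hzc : ∀ g : G, g * z = z * g := by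
    intro g
    rcases h.cases g with ⟨a, rfl⟩ | ⟨a, rfl⟩
    · rw [hzdef, h.u_mul, h.u_mul, add_comm]
    · rw [hzdef, h.uy_mul_u, h.u_mul_uy]
      congr 2
      linear_combination hhh - hhalf
  have hz1 : z ≠ 1 := by
    rw [hzdef, Ne, h.u_eq_one_iff]
    exact half_ne_zero n h.one_le
  have hz2 : z * z = 1 := by
    rw [hzdef, h.u_mul, ← h.u_zero]
    congr 1
    linear_combination hhalf
  have hzo : orderOf z = 2 := orderOf_eq_prime (by rw [pow_two, hz2]) hz1
  have hz : ∀ v, ρ z v = -v := z_neg' hirr hρ hzc hzo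
  let C : Subgroup G := Subgroup.zpowers (u 1)
  have hCr : ∀ i : ZMod (2 ^ n), u i ∈ C := by
    intro i
    refine Subgroup.mem_zpowers_iff.2 ⟨(i.val : ℤ), ?_⟩
    rw [zpow_natCast, ← h.u_eq_pow]
  have hfpf : ∀ i : ZMod (2 ^ n), i ≠ 0 → ∀ v : V, ρ (u i) v = v → v = 0 := by
    intro i hi v hv
    refine cyclic_fpf h2 hG hz hzo C inferInstance (hCr _) (hCr i) ?_ hv
    rw [Ne, h.u_eq_one_iff]
    exact hi
  let t : Fin (2 ^ (n - 1)) → G := fun i => u (2 * (i : ℕ)) * y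
  have htt : ∀ i, t i * t i = 1 := by
    intro i
    simp only [t]
    rw [← pow_two, h.uy_sq, ← h.u_zero]
    congr 1
    linear_combination ((i : ℕ) : ZMod (2 ^ n)) * hhalf
  have ht1 : ∀ i, t i ≠ 1 := by
    intro i h3
    simp only [t] at h3
    rw [← h.u_zero] at h3
    exact h.u_ne _ _ h3.symm
  have htz : ∀ i, t i ≠ z := by
    intro i h3
    exact h.u_ne _ _ h3.symm
  have hpos : 0 < 2 ^ (n - 1) := by positivity
  have hfix : ∃ v : V, v ≠ 0 ∧ ρ (t ⟨0, hpos⟩) v = v := by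
    by_contra hcon
    push Not at hcon
    have h3 : ∀ v : V, ρ (t ⟨0, hpos⟩) v = -v := by
      intro v
      have h4 : ρ (t ⟨0, hpos⟩) (v + ρ (t ⟨0, hpos⟩) v) = v + ρ (t ⟨0, hpos⟩) v := by
        rw [map_add, ← LinearEquiv.mul_apply, ← map_mul, htt, map_one, add_comm]; rfl
      by_cases h5 : v + ρ (t ⟨0, hpos⟩) v = 0
      · exact (neg_eq_of_add_eq_zero_right h5).symm
      · exact absurd h4 (hcon _ h5)
    apply htz ⟨0, hpos⟩
    apply hρ
    ext v
    rw [h3, hz]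
  have hst : ∀ v : V, v ≠ 0 → stab ρ v ≠ ⊥ := by
    intro v hv h3
    obtain ⟨w, hw, hw'⟩ := hfix
    exact ht1 _ (semireg_of_one ρ hc hv h3 w hw _ hw')
  have hres := count (z := z) h2 t hz htt (ρ := ρ) (l := n - 1) ?_ ?_ ?_ ?_
  · refine ⟨hres.1, n - 1, hres.2, ?_⟩
    rw [h.card]
    congr 1
    have := h.two_le
    omega
  · intro i
    have h3 := Cfsg.Agent.S1189.isConj_shift h (2 * ((i : ℕ) : ZMod (2 ^ n))) (2 ^ (n - 2))
    rw [isConj_iff] at h3
    obtain ⟨c, hc⟩ := h3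
    refine ⟨c, ?_⟩
    simp only [t]
    rw [hc, hzdef, h.uy_mul_u]
    congr 2
    have h4 := Cfsg.Agent.S1189.quarter_two_mul n h.two_le
    linear_combination h4 - hhh + hhalf
  · intro v hv
    obtain ⟨⟨g, hg⟩, hg1⟩ := Subgroup.ne_bot_iff_exists_ne_one.1 (hst v hv)
    have hgne : g ≠ 1 := fun h3 => hg1 (Subtype.ext h3)
    rcases h.cases g with ⟨a, rfl⟩ | ⟨a, rfl⟩
    · exfalso
      apply hv
      refine hfpf a ?_ v hg
      rintro rfl
      exact hgne h.u_zero
    · rcases even_or_odd' n a with ⟨c, hc'⟩ | ⟨c, hc'⟩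
      · -- reduce `c` modulo `2 ^ (n-1)`
        have hlt : c.val % 2 ^ (n - 1) < 2 ^ (n - 1) := Nat.mod_lt _ hpos
        refine ⟨⟨c.val % 2 ^ (n - 1), hlt⟩, ?_⟩
        have h5 : (2 : ZMod (2 ^ n)) * ((c.val % 2 ^ (n - 1) : ℕ) : ZMod (2 ^ n)) = a := by
          have h6 : c = ((c.val : ℕ) : ZMod (2 ^ n)) := (ZMod.natCast_zmod_val c).symm
          have h7 := Nat.div_add_mod c.val (2 ^ (n - 1))
          have h8 : c = (2 : ZMod (2 ^ n)) ^ (n - 1) * ((c.val / 2 ^ (n - 1) : ℕ) : ZMod (2 ^ n)) +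
              ((c.val % 2 ^ (n - 1) : ℕ) : ZMod (2 ^ n)) := by
            conv_lhs => rw [h6, ← h7]
            push_cast
            ring
          rw [hc']
          linear_combination (-2) * h8 + ((c.val / 2 ^ (n - 1) : ℕ) : ZMod (2 ^ n)) * (-1) * hhalf
        show ρ (u (2 * ((c.val % 2 ^ (n - 1) : ℕ) : ZMod (2 ^ n))) * y) v = v
        rw [h5]
        exact hg
      · exfalso
        have h5 : (u a * y) ^ 2 ∈ stab ρ v := Subgroup.pow_mem _ hg 2
        rw [h.uy_sq, hc', half_mul_odd n h.one_le, mem_stab, ← hzdef, hz] at h5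
        exact hv (eq_zero_of_eq_neg h2 h5.symm)
  · intro v hv i j hi hj
    by_contra hij
    apply hv
    have h5 : t i * t j = u (2 * ((i : ℕ) : ZMod (2 ^ n)) - 2 * ((j : ℕ) : ZMod (2 ^ n))) := by
      simp only [t]
      rw [h.uy_mul_uy]
      congr 1
      linear_combination ((j : ℕ) : ZMod (2 ^ n)) * hhalf
    refine hfpf (2 * ((i : ℕ) : ZMod (2 ^ n)) - 2 * ((j : ℕ) : ZMod (2 ^ n))) ?_ v ?_
    · intro h6
      apply hij
      have h7 : ((2 * (i : ℕ) : ℕ) : ZMod (2 ^ n)) = ((2 * (j : ℕ) : ℕ) : ZMod (2 ^ n)) := by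
        push_cast
        exact sub_eq_zero.1 h6
      have h8 : 2 * 2 ^ (n - 1) = 2 ^ n := by
        rw [← pow_succ']; congr 1; have := h.one_le; omega
      have hi' := i.2
      have hj' := j.2
      have h9 := congrArg ZMod.val h7
      rw [ZMod.val_natCast, ZMod.val_natCast, Nat.mod_eq_of_lt (by omega), Nat.mod_eq_of_lt (by omega)] at h9
      exact Fin.ext (by omega)
    · rw [← h5, map_mul, LinearEquiv.mul_apply, hj, hi]
  · exact Fintype.card_fin _

end Cfsg.Agent.H351.HT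
end

-- part: H351/HalfTransMain
section
set_option autoImplicit false
set_option linter.style.haveILetI false

/-!
# Half-transitive linear `p`-groups
-/

namespace Cfsg.Agent.H351.HT

variable {q : ℕ} {V : Type*} [AddCommGroup V] [Module (ZMod q) V]
  {G : Type*} [Group G] {ρ : G →* (V ≃ₗ[ZMod q] V)}

/-- If every element of order `p` lies over the same central subgroup then the action is semiregular. -/
theorem semireg_of_unique [Finite G] {p : ℕ} [Fact p.Prime] (hG : IsPGroup p G) (hirr : Irred ρ)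
    (hρ : Function.Injective ρ)
    (hz : ∀ x y : G, orderOf x = p → orderOf y = p → (∀ g : G, g * y = y * g) → y ∈ Subgroup.zpowers x) :
    ∀ w : V, w ≠ 0 → ∀ g : G, ρ g w = w → g = 1 := by
  intro w hw g hg
  by_contra hg1
  have hp : p.Prime := Fact.out
  have hnt : Nontrivial G := ⟨⟨g, 1, hg1⟩⟩
  -- an element of order `p` in `⟨g⟩`
  obtain ⟨k, hk⟩ := (IsPGroup.iff_orderOf.1 hG) g
  have hk0 : k ≠ 0 := by
    rintro rfl
    rw [pow_zero, orderOf_eq_one_iff] at hk
    exact hg1 hk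
  obtain ⟨x, hx, hxo⟩ : ∃ x ∈ stab ρ w, orderOf x = p := by
    refine ⟨g ^ p ^ (k - 1), Subgroup.pow_mem _ hg _, ?_⟩
    rw [orderOf_pow_of_dvd (pow_ne_zero _ hp.ne_zero) (by rw [hk]; exact pow_dvd_pow p (by omega)), hk]
    obtain ⟨m, rfl⟩ := Nat.exists_eq_succ_of_ne_zero hk0
    rw [Nat.succ_eq_add_one, Nat.add_sub_cancel, pow_succ, Nat.mul_div_cancel_left _ (pow_pos hp.pos m)]
  -- a central element of order `p`
  haveI := hG.center_nontrivial
  have hcp : p ∣ Nat.card (Subgroup.center G) := by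
    obtain ⟨m, hm⟩ := IsPGroup.iff_card.1 (hG.to_subgroup (Subgroup.center G))
    have h1 : 1 < Nat.card (Subgroup.center G) := Finite.one_lt_card
    rw [hm] at h1 ⊢
    exact dvd_pow_self p (by rintro rfl; simp at h1)
  obtain ⟨⟨y, hyc⟩, hyo⟩ := exists_prime_orderOf_dvd_card' p hcp
  rw [Subgroup.orderOf_mk] at hyo
  have hyc' : ∀ g : G, g * y = y * g := fun g => Subgroup.mem_center_iff.1 hyc g
  have h2 := hz x y hxo hyo hyc'
  have h3 : y ∈ stab ρ w := (Subgroup.zpowers_le.2 hx) h2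
  apply hw
  refine fix_central ρ hirr hρ hyc' ?_ h3
  rintro rfl
  rw [orderOf_one] at hyo
  exact hp.one_lt.ne hyo

theorem main (hq : Fact q.Prime) [Finite V] [Nontrivial V] [Finite G]
    (p : ℕ) [Fact p.Prime] (hG : IsPGroup p G) (hρ : Function.Injective ρ)
    (hhalf : ∀ v w : V, v ≠ 0 → w ≠ 0 →
      Nat.card {u : V | ∃ g : G, ρ g v = u} = Nat.card {u : V | ∃ g : G, ρ g w = u}) :
    ((IsCyclic G ∨ ∃ n : ℕ, Nonempty (G ≃* QuaternionGroup n)) ∧ ∀ v : V, v ≠ 0 → ∀ g : G, ρ g v = v → g = 1) ∨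
    (Nat.card V = q ^ 2 ∧ ∃ m : ℕ, q = 2 ^ m - 1 ∧
      (Nonempty (G ≃* DihedralGroup (2 ^ m)) ∨ (Cfsg.IsQuasiDihedral G ∧ Nat.card G = 2 ^ (m + 2)))) ∨
    (Nat.card V = q ^ 2 ∧ (∃ m : ℕ, q = 2 ^ m + 1) ∧
      ∃ e : V ≃ₗ[ZMod q] (Fin 2 → ZMod q), ∀ f : (Fin 2 → ZMod q) ≃ₗ[ZMod q] (Fin 2 → ZMod q),
        (∃ g : G, f = e.symm.trans ((ρ g).trans e)) ↔
        ∃ a s : ZMod q, a ≠ 0 ∧ (s = 1 ∨ s = -1) ∧
          ((∀ v, f v = ![a * v 0, s * a⁻¹ * v 1]) ∨ (∀ v, f v = ![s * a⁻¹ * v 1, a * v 0]))) ∨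
    (Nat.card V = 81 ∧ q = 3 ∧ p = 2) := by
  have hp : p.Prime := Fact.out
  have hc := stab_card_eq ρ hhalf
  by_cases hs : ∀ w : V, w ≠ 0 → ∀ g : G, ρ g w = w → g = 1
  · exact Or.inl ⟨cyclic_or_quat_of_semireg ρ p hG hs, hs⟩
  right
  have hpq : p ≠ q := by
    rintro rfl
    exact hs (semireg_of_char ρ hG hρ hc)
  have hqG : ¬ q ∣ Nat.card G := by
    intro hd
    obtain ⟨k, hk⟩ := IsPGroup.iff_card.1 hG
    rw [hk] at hd
    exact hpq ((Nat.prime_dvd_prime_iff_eq hq.out hp).1 (hq.out.dvd_of_dvd_pow hd)).symm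
  have hpq' : (p : ZMod q) ≠ 0 := by
    rw [Ne, ZMod.natCast_eq_zero_iff]
    intro hd
    exact hpq ((Nat.prime_dvd_prime_iff_eq hq.out hp).1 hd).symm
  have hirr : Irred ρ := by
    by_contra h
    exact hs (semireg_of_reducible ρ hqG hρ hc h)
  by_cases hA : ∀ A : Subgroup G, A.Normal → IsMulCommutative A → IsCyclic A
  · by_cases hm : ∃ B : Subgroup G, IsMulCommutative B ∧ ¬ IsCyclic B
    · obtain ⟨rfl, hcase⟩ := Cfsg.Agent.S0519.result p hG hA hm
      have h2 : (2 : ZMod q) ≠ 0 := by exact_mod_cast hpq'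
      rcases hcase with ⟨n, ⟨e⟩⟩ | ⟨n, hn, ⟨e⟩⟩ | hS
      · exfalso
        have hn0 : NeZero n := by
          refine ⟨?_⟩
          rintro rfl
          have h3 : Finite (QuaternionGroup 0) := Finite.of_equiv G e.toEquiv
          have h4 : Function.Injective (fun i : ℤ => (QuaternionGroup.a i : QuaternionGroup 0)) :=
            fun i j hij => QuaternionGroup.a.inj hij
          exact not_injective_infinite_finite _ h4
        apply hs
        refine semireg_of_unique hG hirr hρ ?_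
        intro x y hx hy _
        have hval : ∀ x : G, orderOf x = 2 → e x = QuaternionGroup.a (n : ZMod (2 * n)) := by
          intro x hx
          have h3 : e x ^ 2 = 1 := by rw [← map_pow, ← hx, pow_orderOf_eq_one, map_one]
          by_cases h4 : e x = 1
          · exfalso
            rw [e.map_eq_one_iff] at h4
            rw [h4, orderOf_one] at hx
            omega
          · exact Cfsg.Agent.TwoFusion.QuatCover.eq_a_of_sq_eq_one n (e x) h3 h4
        have h5 : y = x := e.injective (by rw [hval x hx, hval y hy])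
        rw [h5]
        exact Subgroup.mem_zpowers x
      · left
        obtain ⟨h3, m, h4, h5⟩ := dihedral_case hirr hρ h2 hG hc hn e
        refine ⟨h3, m, by omega, Or.inl ?_⟩
        subst h5
        exact ⟨e⟩
      · left
        obtain ⟨h3, m, h4, h5⟩ := sd_case hirr hρ h2 hG hc hS
        exact ⟨h3, m, by omega, Or.inr ⟨hS, h5⟩⟩
    · exfalso
      push Not at hm
      apply hs
      refine semireg_of_unique hG hirr hρ ?_
      intro x y hx hy hyc
      let B := Subgroup.closure {x, y}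
      have hB : IsMulCommutative B := by
        refine Subgroup.isMulCommutative_closure ?_
        rintro a (rfl | rfl) b (rfl | rfl)
        · rfl
        · exact hyc _
        · exact (hyc _).symm
        · rfl
      have hcyc := hm B hB
      have hxB : x ∈ B := Subgroup.subset_closure (by simp)
      have hyB : y ∈ B := Subgroup.subset_closure (by simp)
      have h3 : (⟨y, hyB⟩ : B) ∈ Subgroup.zpowers (⟨x, hxB⟩ : B) := by
        apply mem_zpowers_of_dvd
        rw [Subgroup.orderOf_mk, Subgroup.orderOf_mk, hx, hy]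
      obtain ⟨k, hk⟩ := Subgroup.mem_zpowers_iff.1 h3
      refine Subgroup.mem_zpowers_iff.2 ⟨k, ?_⟩
      simpa using congrArg Subtype.val hk
  · push Not at hA
    obtain ⟨A, hAn, hAc, hAnc⟩ := hA
    obtain ⟨z, b, h1, h2, h3, h4, h5⟩ := exists_config hG A hAc hAnc
    have hconf : Conf p z b := ⟨h1, h2, h3, h4, fun g => by
      obtain ⟨i, hi⟩ := h5 g
      exact ⟨(i : ℤ), by rw [hi, zpow_natCast]⟩⟩
    by_cases hp2 : p = 2
    · subst hp2
      have h2' : (2 : ZMod q) ≠ 0 := by exact_mod_cast hpq'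
      right
      obtain ⟨g₀, hg₀, u, hu0, hu⟩ := hconf.exists_two hirr hρ h2'
      have htr : ∀ u' : V, ρ b u' = u' → u' ≠ 0 → ∃ g : G, ρ g u = u' := by
        intro u' hu' hu0'
        by_contra hcon
        push Not at hcon
        exact hs (hconf.trans_or_semireg hirr hρ h2' hg₀ hc hu hu' hu0 hu0' hcon)
      have hVc := hconf.card_eq hirr hρ h2' hg₀
      obtain ⟨k, ⟨h6, h7⟩ | ⟨h6, h7⟩⟩ := hconf.rank hirr hρ hG h2' hu0 hu htr
      · left
        refine ⟨by rw [hVc, h6], ⟨k, h7⟩, ?_⟩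
        rcases hconf.monomial hirr hρ h2' hg₀ hc h6 hu0 hu with h8 | h8
        · exact absurd h8 hs
        · exact h8
      · right
        exact ⟨by rw [hVc, h6]; norm_num, h7, rfl⟩
    · exfalso
      exact hs (hconf.semireg_odd hp2 hirr hρ hpq' hc)

end Cfsg.Agent.H351.HT
end
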